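import Groth.Agent.Stk19b.HilbPts.Main
import Groth.Agent.FlatMorGeom.GeomFibreBound

/-!
# Charts around a point of the Hilbert functor
-/

set_option autoImplicit false
set_option linter.style.haveILetI false
set_option linter.unusedSectionVars false
set_option backward.isDefEq.respectTransparency false
set_option backward.isDefEq.respectTransparency.types false

universe u

open CategoryTheory CategoryTheory.Limits AlgebraicGeometry TensorProduct

noncomputable section

namespace Groth.Agent.Stk19b.HilbPts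

open GrpdSplit

variable {X S : Scheme.{u}} (f : X ⟶ S)

/-- A finite set of points in an open of an affine scheme lies in a basic open inside it. -/
theorem exists_basicOpen_finite {R : Type u} [CommRing R] (P : Set (PrimeSpectrum R)) (hP : P.Finite)
    (O : Set (PrimeSpectrum R)) (hO : IsOpen O) (hPO : P ⊆ O) :
    ∃ r : R, P ⊆ PrimeSpectrum.basicOpen r ∧ (PrimeSpectrum.basicOpen r : Set (PrimeSpectrum R)) ⊆ O := by
  classical
  obtain ⟨I, hI⟩ := (PrimeSpectrum.isClosed_iff_zeroLocus_ideal Oᶜ).1 hO.isClosed_compl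
  have hnot : ∀ x ∈ P, ¬ I ≤ x.asIdeal := fun x hx hle => (hI.symm ▸ hle : x ∈ Oᶜ) (hPO hx)
  obtain ⟨r, hrI, hr⟩ : ∃ r ∈ I, ∀ x ∈ P, r ∉ x.asIdeal := by
    by_contra hcon
    push Not at hcon
    rcases P.eq_empty_or_nonempty with he | ⟨a, ha⟩
    · obtain ⟨x, hx, -⟩ := hcon 0 I.zero_mem
      exact he.le hx
    · have hsub : (I : Set R) ⊆ ⋃ x ∈ (hP.toFinset : Set (PrimeSpectrum R)), (x.asIdeal : Set R) := fun r hr => by
        obtain ⟨x, hx, hrx⟩ := hcon r hr
        exact Set.mem_iUnion₂.2 ⟨x, by simpa using hx, hrx⟩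
      obtain ⟨x, hx, hle⟩ := (Ideal.subset_union_prime a a fun x _ _ _ => x.isPrime).1 hsub
      exact hnot x (by simpa using hx) hle
  exact ⟨r, fun x hx => hr x hx, fun x hx => by_contra fun hxO => hx ((hI.le hxO) hrI)⟩

theorem exists_affineOpen_between {Y : Scheme.{u}} {U : Y.Opens} (hU : IsAffineOpen U) (W : Y.Opens)
    (P : Set Y) (hP : P.Finite) (hPU : P ⊆ U) (hPW : P ⊆ W) :
    ∃ U' : Y.Opens, IsAffineOpen U' ∧ P ⊆ U' ∧ U' ≤ W := by
  obtain ⟨r, hr, hrO⟩ := exists_basicOpen_finite (R := Γ(Y, U)) (hU.fromSpec ⁻¹' P)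
    (hP.preimage hU.fromSpec.isOpenEmbedding.injective.injOn) (hU.fromSpec ⁻¹' (W : Set Y))
    (W.isOpen.preimage (Scheme.Hom.continuous _)) (fun x hx => hPW hx)
  refine ⟨Y.basicOpen r, hU.basicOpen r, fun y hy => ?_, fun y hy => ?_⟩
  · obtain ⟨x, rfl⟩ := hU.range_fromSpec.ge (hPU hy)
    rw [← hU.fromSpec_image_basicOpen r]
    exact ⟨x, hr hy, rfl⟩
  · rw [← hU.fromSpec_image_basicOpen r] at hy
    obtain ⟨x, hx, rfl⟩ := hy
    exact hrO hx

/-- The points in one fibre of an element: at most `d`, and a field valued point over it. -/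
theorem exists_fibre_points [IsSeparated f] {A : Type u} [CommRing A] (v : Spec (CommRingCat.of A) ⟶ S) [IsOpenImmersion v] {d : ℕ}
    {T : Over S} (I : HilbD.Obj f d T) (p : T.left) (hp : T.hom p ∈ Set.range v) :
    ∃ (κ : Type u) (_ : Field κ) (_ : Algebra A κ) (g : base v κ ⟶ T) (x : Spec (CommRingCat.of κ))
      (Q : Type u) (_ : CommRing Q) (_ : Algebra κ Q) (w : Spec (CommRingCat.of Q) ⟶ PicF.XT f (base v κ)),
      g.left x = p ∧ IsClosedImmersion w ∧ w.ker = HilbD.pull f g I.1 ∧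
        w ≫ PicF.XTproj f (base v κ) = Spec.map (CommRingCat.ofHom (algebraMap κ Q)) ∧
        Module.Finite κ Q ∧ Module.finrank κ Q = d := by
  let κ : Type u := T.left.residueField p
  let a : Spec (CommRingCat.of κ) ⟶ T.left := T.left.fromSpecResidueField p
  let a' := IsOpenImmersion.lift v (a ≫ T.hom) (by
    rintro _ ⟨z, rfl⟩
    rw [Scheme.Hom.comp_apply, show a z = p from residue_point p z]
    exact hp)
  obtain ⟨φ, hφ⟩ := Spec.map_surjective a'
  letI : Algebra A κ := φ.hom.toAlgebra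
  let g : base v κ ⟶ T := Over.homMk a (by
    show a ≫ T.hom = Spec.map φ ≫ v
    rw [hφ, IsOpenImmersion.lift_fac])
  obtain ⟨x⟩ := (inferInstance : Nonempty (Spec (T.left.residueField p)))
  obtain ⟨Q, _, _, w, hw1, hw2, hw3, _, _, hrank⟩ := exists_fam (HilbSh8.isFinLocFreeOfDeg_pull f g I.2)
  refine ⟨κ, inferInstance, inferInstance, g, x, Q, inferInstance, inferInstance, w, residue_point p x, hw1, hw2,
    hw3, inferInstance, ?_⟩
  have h := hrank ⟨⊥, Ideal.isPrime_bot⟩
  rwa [Module.rankAtStalk_eq_finrank_of_free] at h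

/-- The finitely many images in `X` of the points of a fibre, as a tuple. -/
theorem exists_tuple {A : Type u} [CommRing A] {v : Spec (CommRingCat.of A) ⟶ S} {κ : Type u} [Field κ]
    [Algebra A κ] {Q : Type u} [CommRing Q] [Algebra κ Q] [Module.Finite κ Q]
    (w : Spec (CommRingCat.of Q) ⟶ PicF.XT f (base v κ)) {d : ℕ} (hd : Module.finrank κ Q = d) {T : Over S}
    (g : base v κ ⟶ T) (x : Spec (CommRingCat.of κ)) :
    ∃ pts : Fin d → X, (∀ i, f.base (pts i) = T.hom (g.left x)) ∧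
      ∀ z, ∃ i, pts i = (w ≫ pullback.fst f (base v κ).hom) z := by
  classical
  haveI : Subsingleton (Spec (CommRingCat.of κ)) := inferInstanceAs (Subsingleton (PrimeSpectrum κ))
  have hover : ∀ z, f ((w ≫ pullback.fst f (base v κ).hom) z) = T.hom (g.left x) := fun z => by
    have e : (w ≫ pullback.fst f (base v κ).hom) ≫ f = ((w ≫ PicF.XTproj f (base v κ)) ≫ g.left) ≫ T.hom := by
      simp only [Category.assoc, Over.w g, pullback.condition]
    rw [← Scheme.Hom.comp_apply, e, Scheme.Hom.comp_apply, Scheme.Hom.comp_apply,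
      show (w ≫ PicF.XTproj f (base v κ)) z = x from Subsingleton.elim (α := Spec (CommRingCat.of κ)) _ _]
  haveI : IsArtinianRing Q := IsArtinianRing.of_finite κ Q
  haveI : Finite (PrimeSpectrum Q) := inferInstance
  letI := Fintype.ofFinite (PrimeSpectrum Q)
  have hc : Fintype.card (PrimeSpectrum Q) ≤ d := by
    have h := FlatMorGeom.card_primeSpectrum_le_finrank κ Q
    rw [ENat.card_eq_coe_fintype_card, Nat.cast_le, hd] at h
    exact h
  by_cases hd0 : d = 0
  · subst hd0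
    haveI : IsEmpty (PrimeSpectrum Q) := Fintype.card_eq_zero_iff.1 (Nat.le_zero.1 hc)
    exact ⟨Fin.elim0, fun i => i.elim0, fun z => isEmptyElim (α := PrimeSpectrum Q) z⟩
  · have : Nontrivial Q := Module.nontrivial_of_finrank_pos (R := κ) (by omega)
    obtain ⟨z₀⟩ := (inferInstance : Nonempty (PrimeSpectrum Q))
    let e := Fintype.equivFin (PrimeSpectrum Q)
    let zz : Fin d → PrimeSpectrum Q := fun i => if h : i.1 < Fintype.card (PrimeSpectrum Q) then e.symm ⟨i, h⟩ else z₀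
    refine ⟨fun i => (w ≫ pullback.fst f (base v κ).hom) (zz i : Spec (CommRingCat.of Q)), fun i => hover _, fun z => ?_⟩
    refine ⟨⟨(e z).1, (e z).2.trans_le hc⟩, ?_⟩
    simp [zz]

variable {f} [IsSeparated f]

/-- The basis of a chart containing a field valued fibre. -/
theorem exists_good_of_range {A B : Type u} [CommRing A] [CommRing B] [Algebra A B]
    {v : Spec (CommRingCat.of A) ⟶ S} [IsOpenImmersion v] {u : Spec (CommRingCat.of B) ⟶ X} [IsOpenImmersion u]
    (huv : u ≫ f = Spec.map (CommRingCat.ofHom (algebraMap A B)) ≫ v) {d : ℕ} {κ : Type u} [Field κ] [Algebra A κ]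
    {Q : Type u} [CommRing Q] [Algebra κ Q] [Module.Finite κ Q] (hd : Module.finrank κ Q = d)
    (w : Spec (CommRingCat.of Q) ⟶ PicF.XT f (base v κ)) [IsClosedImmersion w]
    (hw : w ≫ PicF.XTproj f (base v κ) = Spec.map (CommRingCat.ofHom (algebraMap κ Q)))
    (hu : ∀ z, (w ≫ pullback.fst f (base v κ).hom) z ∈ Set.range u) :
    ∃ b : Fin d → B, Good huv b κ w.ker := by
  obtain ⟨q, hq⟩ := exists_ringHom_eq u (pullback.fst f (base v κ).hom) w hu
  exact exists_good_field huv hd w hw q hq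

/-- Representability for a morphism of affine schemes. -/
theorem representable_affine {X S : Scheme.{u}} [IsAffine X] [IsAffine S] (f : X ⟶ S) (d : ℕ) :
    HilbD.Representable f d := by
  haveI : IsSeparated f := inferInstance
  letI : Algebra Γ(S, ⊤) Γ(X, ⊤) := f.appTop.hom.toAlgebra
  have huv : X.isoSpec.inv ≫ f =
      Spec.map (CommRingCat.ofHom (algebraMap Γ(S, ⊤) Γ(X, ⊤))) ≫ S.isoSpec.inv :=
    (Scheme.isoSpec_inv_naturality f).symm
  refine representable_of_cover (f := f) (d := d)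
    (fun b : Fin d → Γ(X, ⊤) => ⟨Γ(S, ⊤), Γ(X, ⊤), S.isoSpec.inv, X.isoSpec.inv, huv, b⟩) fun T I p => ?_
  obtain ⟨κ, _, _, g, x, Q, _, _, w, hx, hw, hk, hp, _, hd⟩ :=
    exists_fibre_points f (A := Γ(S, ⊤)) S.isoSpec.inv I p (S.isoSpec.inv.surjective _)
  haveI := hw
  obtain ⟨b, hb⟩ := exists_good_of_range huv hd w hp fun z => X.isoSpec.inv.surjective _
  exact ⟨b, κ, inferInstance, inferInstance, g, x, hx, hk ▸ hb⟩

/-- Representability when finite sets in fibres lie in affine opens. -/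
theorem representable_of_affine_sets (d : ℕ)
    (h : ∀ (s : S) (x : Fin d → X), (∀ i, f.base (x i) = s) → ∃ U : X.Opens, IsAffineOpen U ∧ ∀ i, x i ∈ U) :
    HilbD.Representable f d := by
  let ι := Σ' (V : S.affineOpens) (U : X.affineOpens) (_ : U.1 ≤ f ⁻¹ᵁ V.1), Fin d → Γ(X, U.1)
  let c : ι → Piece f d := fun i =>
    letI : Algebra Γ(S, i.1.1) Γ(X, i.2.1.1) := (f.appLE i.1.1 i.2.1.1 i.2.2.1).hom.toAlgebra
    haveI := i.1.2.isOpenImmersion_fromSpec
    haveI := i.2.1.2.isOpenImmersion_fromSpec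
    ⟨Γ(S, i.1.1), Γ(X, i.2.1.1), i.1.2.fromSpec, i.2.1.2.fromSpec,
      (IsAffineOpen.SpecMap_appLE_fromSpec f i.1.2 i.2.1.2 i.2.2.1).symm, i.2.2.2⟩
  refine representable_of_cover c fun T I p => ?_
  obtain ⟨V, hV, hpV, -⟩ := exists_isAffineOpen_mem_and_subset (x := T.hom p) (U := (⊤ : S.Opens)) trivial
  haveI := hV.isOpenImmersion_fromSpec
  obtain ⟨κ, _, _, g, x, Q, _, _, w, hx, hw, hk, hp, _, hd⟩ :=
    exists_fibre_points f (A := Γ(S, V)) hV.fromSpec I p (hV.range_fromSpec.ge hpV)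
  haveI := hw
  obtain ⟨pts, hpts, hcov⟩ := exists_tuple f w hd g x
  obtain ⟨U₀, hU₀, hmem⟩ := h _ pts hpts
  obtain ⟨U, hU, hPU, hUV⟩ := exists_affineOpen_between hU₀ (f ⁻¹ᵁ V) (Set.range pts) (Set.finite_range _)
    (by rintro _ ⟨i, rfl⟩; exact hmem i)
    (by
      rintro _ ⟨i, rfl⟩
      show f (pts i) ∈ V
      rw [show f (pts i) = T.hom (g.left x) from hpts i, hx]
      exact hpV)
  letI : Algebra Γ(S, V) Γ(X, U) := (f.appLE V U hUV).hom.toAlgebra
  haveI := hU.isOpenImmersion_fromSpec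
  obtain ⟨b, hb⟩ := exists_good_of_range (f := f) (u := hU.fromSpec) (v := hV.fromSpec)
    (IsAffineOpen.SpecMap_appLE_fromSpec f hV hU hUV).symm hd w hp fun z => by
      obtain ⟨i, hi⟩ := hcov z
      rw [← hi, hU.range_fromSpec]
      exact hPU ⟨i, rfl⟩
  exact ⟨⟨⟨V, hV⟩, ⟨U, hU⟩, hUV, b⟩, κ, inferInstance, inferInstance, g, x, hx, hk ▸ hb⟩

end Groth.Agent.Stk19b.HilbPts
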