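import Groth.Agent.Stk19b.HilbPts.Affine
import Mathlib.LinearAlgebra.Basis.VectorSpace

/-!
# The locus of a chart
-/

set_option autoImplicit false
set_option linter.style.haveILetI false
set_option linter.unusedSectionVars false
set_option backward.isDefEq.respectTransparency false
set_option backward.isDefEq.respectTransparency.types false

universe u

open CategoryTheory CategoryTheory.Limits AlgebraicGeometry TensorProduct

noncomputable section

namespace Groth.Agent.Stk19b.HilbPts

open GrpdSplit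

variable {X S : Scheme.{u}} (f : X ⟶ S)

/-- The base change of a closed subscheme maps to it. -/
theorem exists_subMap {T T' : Over S} (g : T' ⟶ T) (I : (PicF.XT f T).IdealSheafData) :
    ∃ t : (HilbD.pull f g I).subscheme ⟶ I.subscheme,
      t ≫ I.subschemeι = (HilbD.pull f g I).subschemeι ≫ PicF.XTmap f g ∧
      IsPullback t ((HilbD.pull f g I).subschemeι ≫ PicF.XTproj f T') (I.subschemeι ≫ PicF.XTproj f T) g.left := by
  let m := pullback.snd I.subschemeι (PicF.XTmap f g)
  have hm : m.toImage ≫ (HilbD.pull f g I).subschemeι = m := Scheme.Hom.toImage_imageι _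
  refine ⟨inv m.toImage ≫ pullback.fst _ _, ?_, ?_⟩
  · rw [Category.assoc, IsIso.inv_comp_eq, reassoc_of% hm, pullback.condition]
  · have sq := (IsPullback.of_hasPullback I.subschemeι (PicF.XTmap f g)).paste_vert (HilbSh8.isPullback_XTmap f g)
    refine sq.of_iso (asIso m.toImage) (Iso.refl _) (Iso.refl _) (Iso.refl _) (by simp) ?_ (by simp) (by simp)
    rw [asIso_hom, reassoc_of% hm]
    simp [m]

theorem fst_subMap {T T' : Over S} {g : T' ⟶ T} {I : (PicF.XT f T).IdealSheafData}
    {t : (HilbD.pull f g I).subscheme ⟶ I.subscheme}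
    (ht : t ≫ I.subschemeι = (HilbD.pull f g I).subschemeι ≫ PicF.XTmap f g) :
    (HilbD.pull f g I).subschemeι ≫ pullback.fst f T'.hom = t ≫ I.subschemeι ≫ pullback.fst f T.hom := by
  rw [← Category.assoc t, ht, Category.assoc]
  congr 1
  simp [PicF.XTmap]

/-- The points over a given point map into an open iff those over a neighbourhood do. -/
theorem exists_open_into {T : Over S} (I : (PicF.XT f T).IdealSheafData)
    [IsFinite (I.subschemeι ≫ PicF.XTproj f T)] (U : X.Opens) (y : T.left)
    (hy : ∀ z : I.subscheme, (I.subschemeι ≫ PicF.XTproj f T) z = y →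
      (I.subschemeι ≫ pullback.fst f T.hom) z ∈ U) :
    ∃ W : T.left.Opens, y ∈ W ∧ ∀ z : I.subscheme, (I.subschemeι ≫ PicF.XTproj f T) z ∈ W →
      (I.subschemeι ≫ pullback.fst f T.hom) z ∈ U := by
  let C : Set I.subscheme := ((I.subschemeι ≫ pullback.fst f T.hom) ⁻¹' (U : Set X))ᶜ
  have hC : IsClosed C := (U.isOpen.preimage (Scheme.Hom.continuous _)).isClosed_compl
  have hC' : IsClosed ((I.subschemeι ≫ PicF.XTproj f T) '' C) :=
    (I.subschemeι ≫ PicF.XTproj f T).isClosedMap _ hC
  refine ⟨⟨_, hC'.isOpen_compl⟩, ?_, fun z hz => by_contra fun hzU => hz ⟨z, hzU, rfl⟩⟩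
  rintro ⟨z, hzC, hz⟩
  exact hzC (hy z hz)

theorem exists_ringHom_eq {R : Type u} [CommRing R] {Y : Scheme.{u}} {B : Type u} [CommRing B]
    (u : Spec (CommRingCat.of B) ⟶ X) [IsOpenImmersion u] (a : Y ⟶ X) (w : Spec (CommRingCat.of R) ⟶ Y)
    (h : ∀ z, (w ≫ a) z ∈ Set.range u) : ∃ q : B →+* R, Spec.map (CommRingCat.ofHom q) ≫ u = w ≫ a := by
  obtain ⟨φ, hφ⟩ := Spec.map_surjective (IsOpenImmersion.lift u (w ≫ a) (by rintro _ ⟨z, rfl⟩; exact h z))
  exact ⟨φ.hom, by rw [CommRingCat.ofHom_hom, hφ, IsOpenImmersion.lift_fac]⟩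

theorem surjective_of_isClosedImmersion_specMap {P Q : Type u} [CommRing P] [CommRing Q] (φ : P →+* Q)
    [IsClosedImmersion (Spec.map (CommRingCat.ofHom φ))] : Function.Surjective φ := by
  have h := (Spec.map (CommRingCat.ofHom φ)).app_surjective ⊤ (isAffineOpen_top _)
  have e : CommRingCat.ofHom φ = (Scheme.ΓSpecIso (CommRingCat.of P)).inv ≫
      (Spec.map (CommRingCat.ofHom φ)).appTop ≫ (Scheme.ΓSpecIso (CommRingCat.of Q)).hom := by simp
  show Function.Surjective (CommRingCat.ofHom φ)
  rw [e]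
  exact ((ConcreteCategory.bijective_of_isIso (Scheme.ΓSpecIso (CommRingCat.of Q)).hom).2.comp h).comp
    (ConcreteCategory.bijective_of_isIso (Scheme.ΓSpecIso (CommRingCat.of P)).inv).2

variable {f} {A B : Type u} [CommRing A] [CommRing B] [Algebra A B] {v : Spec (CommRingCat.of A) ⟶ S}
  [IsOpenImmersion v] {u : Spec (CommRingCat.of B) ⟶ X} [IsOpenImmersion u] [IsSeparated f]
  (huv : u ≫ f = Spec.map (CommRingCat.ofHom (algebraMap A B)) ≫ v) {n : ℕ}

/-- Over a field, a family mapping into the chart lies in one of the based charts. -/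
theorem exists_good_field {κ : Type u} [Field κ] [Algebra A κ] {Q : Type u} [CommRing Q] [Algebra κ Q]
    [Module.Finite κ Q] (hn : Module.finrank κ Q = n) (w : Spec (CommRingCat.of Q) ⟶ PicF.XT f (base v κ))
    [IsClosedImmersion w]
    (hw : w ≫ PicF.XTproj f (base v κ) = Spec.map (CommRingCat.ofHom (algebraMap κ Q)))
    (q : B →+* Q) (hq : Spec.map (CommRingCat.ofHom q) ≫ u = w ≫ pullback.fst f (base v κ).hom) :
    ∃ b : Fin n → B, Good huv b κ w.ker := by
  classical
  letI : Algebra A Q := ((algebraMap κ Q).comp (algebraMap A κ)).toAlgebra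
  haveI : IsScalarTower A κ Q := IsScalarTower.of_algebraMap_eq fun _ => rfl
  have hcomp : q.comp (algebraMap A B) = (algebraMap κ Q).comp (algebraMap A κ) := by
    have h : Spec.map (CommRingCat.ofHom q) ≫ Spec.map (CommRingCat.ofHom (algebraMap A B)) =
        Spec.map (CommRingCat.ofHom (algebraMap κ Q)) ≫ Spec.map (CommRingCat.ofHom (algebraMap A κ)) := by
      rw [← cancel_mono v, Category.assoc, Category.assoc, ← huv, reassoc_of% hq, pullback.condition, ← hw,
        Category.assoc]
      rfl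
    rw [← Spec.map_comp, ← Spec.map_comp] at h
    exact congrArg CommRingCat.Hom.hom (Spec.map_injective h)
  let qA : B →ₐ[A] Q := { q with commutes' := fun a => RingHom.congr_fun hcomp a }
  let Φ : κ ⊗[A] B →ₐ[κ] Q := Algebra.TensorProduct.lift (Algebra.ofId κ Q) qA fun r y => Commute.all _ _
  have hΦ : ∀ r y, Φ (r ⊗ₜ[A] y) = r • q y := fun r y => by
    rw [Algebra.smul_def]; exact Algebra.TensorProduct.lift_tmul _ _ _ _ _
  have he : Spec.map (CommRingCat.ofHom Φ.toRingHom) ≫ ιR huv κ = w := by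
    apply pullback.hom_ext
    · rw [Category.assoc, ιR_fst, ← Category.assoc, ← Spec.map_comp, ← CommRingCat.ofHom_comp, ← hq]
      congr 3
      exact RingHom.ext fun y => (hΦ 1 y).trans (one_smul _ _)
    · show _ ≫ ιR huv κ ≫ PicF.XTproj f _ = w ≫ PicF.XTproj f _
      rw [ιR_proj, hw, specMap_algHom]
  haveI := mono_ιR huv κ
  haveI : IsClosedImmersion (Spec.map (CommRingCat.ofHom Φ.toRingHom) ≫ ιR huv κ) := he ▸ inferInstance
  haveI : IsClosedImmersion (Spec.map (CommRingCat.ofHom Φ.toRingHom)) :=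
    IsClosedImmersion.of_comp _ (ιR huv κ)
  have hsurj : Function.Surjective Φ := surjective_of_isClosedImmersion_specMap Φ.toRingHom
  have hspan : ⊤ ≤ Submodule.span κ (Set.range q) := by
    rintro z -
    obtain ⟨z, rfl⟩ := hsurj z
    clear * - hΦ
    induction z using TensorProduct.induction_on with
    | zero => rw [map_zero]; exact zero_mem _
    | tmul r y => rw [hΦ]; exact Submodule.smul_mem _ _ (Submodule.subset_span ⟨y, rfl⟩)
    | add z z' hz hz' => rw [map_add]; exact add_mem hz hz'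
  let bas := Module.Basis.ofSpan hspan
  haveI : Finite ((linearIndepOn_empty κ id).extend (Set.empty_subset (Set.range q))) := Module.Finite.finite_basis bas
  letI := Fintype.ofFinite ((linearIndepOn_empty κ id).extend (Set.empty_subset (Set.range q)))
  have hcard := (Module.finrank_eq_card_basis bas).symm.trans hn
  let bas' : Module.Basis (Fin n) κ Q := bas.reindex (Fintype.equivFinOfCardEq hcard)
  have hr : ∀ j, bas' j ∈ Set.range q := fun j => by
    rw [Module.Basis.reindex_apply]
    exact Module.Basis.ofSpan_subset hspan ⟨_, rfl⟩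
  choose b hb using hr
  refine ⟨b, good_of_fam huv b w hw q hq ?_⟩
  have : (fun x : Fin n → κ => ∑ j, x j • q (b j)) = bas'.equivFun.symm := by
    funext x
    rw [Module.Basis.equivFun_symm_apply]
    exact Finset.sum_congr rfl fun j _ => by rw [hb]
  rw [this]
  exact bas'.equivFun.symm.bijective

variable (b : Fin n → B)

/-- Goodness spreads out from a field valued point. -/
theorem exists_good_open {T : Over S} (I : (PicF.XT f T).IdealSheafData)
    (hI : Mor2.IsFinLocFreeOfDeg n (I.subschemeι ≫ PicF.XTproj f T)) {κ : Type u} [Field κ] [Algebra A κ]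
    (g : base v κ ⟶ T) (hg : Good huv b κ (HilbD.pull f g I)) (x : Spec (CommRingCat.of κ)) :
    ∃ (R : Type u) (_ : CommRing R) (_ : Algebra A R) (e : base v R ⟶ T),
      IsOpenImmersion e.left ∧ g.left x ∈ Set.range e.left ∧ Good huv b R (HilbD.pull f e I) := by
  haveI := hI.1.1
  haveI : Subsingleton (Spec (CommRingCat.of κ)) := inferInstanceAs (Subsingleton (PrimeSpectrum κ))
  obtain ⟨t, ht, hsq⟩ := exists_subMap f g I
  obtain ⟨K, hK, hKe⟩ := id hg
  haveI := isClosedImmersion_wK huv b hK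
  have hle : (wK huv K).ker ≤ (HilbD.pull f g I).subschemeι.ker := by
    rw [Scheme.IdealSheafData.ker_subschemeι, hKe]; rfl
  have hrange : ∀ z : (HilbD.pull f g I).subscheme,
      ((HilbD.pull f g I).subschemeι ≫ pullback.fst f (base v κ).hom) z ∈ Set.range u := fun z => by
    rw [← IsClosedImmersion.lift_fac (wK huv K) _ hle, Category.assoc, wK_fst]
    exact ⟨_, rfl⟩
  obtain ⟨W, hgW, hW⟩ := exists_open_into f I u.opensRange (g.left x) fun z hz => by
    obtain ⟨z', hz', -⟩ := Scheme.exists_preimage_of_isPullback hsq z x hz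
    have h := hrange z'
    rw [fst_subMap f ht] at h
    rw [← hz']
    exact h
  have hV : g.left x ∈ T.hom ⁻¹ᵁ v.opensRange := by
    show T.hom (g.left x) ∈ Set.range v
    rw [← Scheme.Hom.comp_apply, Over.w g]
    exact ⟨_, rfl⟩
  obtain ⟨W', hW', hgW', hW'le⟩ := exists_isAffineOpen_mem_and_subset
    (x := g.left x) (U := W ⊓ T.hom ⁻¹ᵁ v.opensRange) ⟨hgW, hV⟩
  have hin : ∀ z, hW'.fromSpec z ∈ W ⊓ T.hom ⁻¹ᵁ v.opensRange := fun z =>
    hW'le (hW'.range_fromSpec.le ⟨z, rfl⟩)
  let a := IsOpenImmersion.lift v (hW'.fromSpec ≫ T.hom) (by rintro _ ⟨z, rfl⟩; exact (hin z).2)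
  obtain ⟨φ, hφ⟩ := Spec.map_surjective a
  letI : Algebra A Γ(T.left, W') := φ.hom.toAlgebra
  let e : base v Γ(T.left, W') ⟶ T := Over.homMk hW'.fromSpec (by
    show hW'.fromSpec ≫ T.hom = Spec.map φ ≫ v
    rw [hφ, IsOpenImmersion.lift_fac])
  haveI : IsOpenImmersion e.left := hW'.isOpenImmersion_fromSpec
  have hIe := HilbSh8.isFinLocFreeOfDeg_pull f e hI
  obtain ⟨te, hte, hsqe⟩ := exists_subMap f e I
  obtain ⟨Q, _, _, w, hwc, hwk, hwp, _, _, hrank⟩ := exists_fam hIe
  haveI := hwc
  have hfac : IsClosedImmersion.lift (HilbD.pull f e I).subschemeι w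
      (by rw [Scheme.IdealSheafData.ker_subschemeι, hwk]) ≫ (HilbD.pull f e I).subschemeι = w :=
    IsClosedImmersion.lift_fac _ _ _
  obtain ⟨q, hq⟩ := exists_ringHom_eq u (pullback.fst f (base v Γ(T.left, W')).hom) w fun z => by
    rw [← hfac, Category.assoc, fst_subMap f hte, Scheme.Hom.comp_apply, Scheme.Hom.comp_apply]
    refine hW _ ?_
    rw [← Scheme.Hom.comp_apply, hsqe.w, Scheme.Hom.comp_apply]
    exact (hin _).1
  obtain ⟨ψ, hψ⟩ := exists_eq_baseMap v (R := Γ(T.left, W')) (R' := κ)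
    (Over.homMk (IsOpenImmersion.lift e.left g.left (by
      rintro _ ⟨y, rfl⟩
      rw [show y = x from (Subsingleton.elim (α := Spec (CommRingCat.of κ)) y x)]
      exact hW'.range_fromSpec.ge hgW')) (by
        rw [← Over.w e, IsOpenImmersion.lift_fac_assoc]
        exact Over.w g))
  have hge : baseMap v ψ ≫ e = g := by
    rw [hψ]; exact Over.OverMorphism.ext (IsOpenImmersion.lift_fac _ _ _)
  obtain ⟨r, hr, hgood⟩ := exists_good_nhd huv b hrank w hwp q hq ψ (by rw [hwk, HilbSh8.pull_pull, hge]; exact hg)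
  rw [hwk, HilbSh8.pull_pull] at hgood
  let L := Localization.Away r
  let toL := IsScalarTower.toAlgHom A Γ(T.left, W') L
  haveI : IsOpenImmersion (baseMap v toL).left :=
    IsOpenImmersion.of_isLocalization (R := CommRingCat.of Γ(T.left, W')) r
  refine ⟨L, inferInstance, inferInstance, baseMap v toL ≫ e, ?_, ?_, hgood⟩
  · rw [Over.comp_left]; infer_instance
  · have hlift : baseMap v (IsLocalization.Away.liftAlgHom r
        (f := ψ) (isUnit_iff_ne_zero.2 hr) : L →ₐ[A] κ) ≫ baseMap v toL = baseMap v ψ := by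
      rw [baseMap_comp]
      congr 1
      exact AlgHom.ext fun y => IsLocalization.Away.lift_eq r (g := ψ.toRingHom) (isUnit_iff_ne_zero.2 hr) y
    refine ⟨(baseMap v (IsLocalization.Away.liftAlgHom r (f := ψ) (isUnit_iff_ne_zero.2 hr) : L →ₐ[A] κ)).left x, ?_⟩
    rw [← hge, ← hlift, Category.assoc]
    rfl

end Groth.Agent.Stk19b.HilbPts
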