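import Groth.Agent.HilbSh8.Locus
import Groth.Agent.S11731
import Mathlib.AlgebraicGeometry.Sites.Fpqc
import Mathlib.CategoryTheory.Sites.Over

/-!
# The Hilbert functor of points is a Zariski sheaf
-/

set_option autoImplicit false
set_option linter.style.haveILetI false
set_option backward.isDefEq.respectTransparency false
set_option backward.isDefEq.respectTransparency.types false

universe u

open CategoryTheory CategoryTheory.Limits AlgebraicGeometry Opposite

noncomputable section

namespace Groth.Agent.Stk19b.HilbPts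

open HilbSh8

variable {X S : Scheme.{u}} (f : X ⟶ S)

theorem XTmap_id (T : Over S) : PicF.XTmap f (𝟙 T) = 𝟙 _ := by
  apply pullback.hom_ext <;> simp [PicF.XTmap]

theorem XTmap_comp {T T' T'' : Over S} (a : T'' ⟶ T') (b : T' ⟶ T) :
    PicF.XTmap f (a ≫ b) = PicF.XTmap f a ≫ PicF.XTmap f b := by
  apply pullback.hom_ext <;> simp [PicF.XTmap]

theorem pull_id {T : Over S} (I : (PicF.XT f T).IdealSheafData) : HilbD.pull f (𝟙 T) I = I := by
  rw [pull_eq_comap, XTmap_id, Scheme.IdealSheafData.comap_id]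

variable (d : ℕ)

/-- Pulling back an element. -/
def objPull {T T' : Over S} (g : T' ⟶ T) (Z : HilbD.Obj f d T) : HilbD.Obj f d T' :=
  ⟨HilbD.pull f g Z.1, isFinLocFreeOfDeg_pull f g Z.2⟩

/-- The Hilbert functor of points. -/
def hFun : (Over S)ᵒᵖ ⥤ Type u where
  obj T := HilbD.Obj f d T.unop
  map t := TypeCat.ofHom fun Z => objPull f d t.unop Z
  map_id T := ConcreteCategory.hom_ext _ _ fun Z => Subtype.ext (pull_id f Z.1)
  map_comp a b := ConcreteCategory.hom_ext _ _ fun Z => Subtype.ext (pull_pull f b.unop a.unop Z.1).symm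

theorem isOpenImmersion_XTmap {T T' : Over S} (g : T' ⟶ T) [IsOpenImmersion g.left] :
    IsOpenImmersion (PicF.XTmap f g) :=
  MorphismProperty.of_isPullback (isPullback_XTmap f g).flip inferInstance

theorem fpqc_mem {P : Scheme.{u}} (𝒰 : P.OpenCover) :
    Presieve.ofArrows 𝒰.X 𝒰.f ∈ Scheme.fpqcPrecoverage P :=
  Scheme.zariskiPrecoverage_le_fpqcPrecoverage _ 𝒰.mem₀

/-- Closed subschemes of `X_T` glue along open covers of `T`. -/
theorem existsUnique_glue {T : Over S} {ι : Type u} {V : ι → Over S} (a : ∀ i, V i ⟶ T)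
    [∀ i, IsOpenImmersion (a i).left] (hcov : ∀ y : T.left, ∃ i, y ∈ Set.range (a i).left)
    (I : ∀ i, (PicF.XT f (V i)).IdealSheafData)
    (hI : ∀ i j (P : Over S) (b : P ⟶ V i) (c : P ⟶ V j), b ≫ a i = c ≫ a j →
      HilbD.pull f b (I i) = HilbD.pull f c (I j)) :
    ∃! J : (PicF.XT f T).IdealSheafData, ∀ i, HilbD.pull f (a i) J = I i := by
  haveI : ∀ i, IsOpenImmersion (PicF.XTmap f (a i)) := fun i => isOpenImmersion_XTmap f (a i)
  have hsurj : ∀ p : PicF.XT f T, ∃ i, p ∈ Set.range (PicF.XTmap f (a i)) := fun p => by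
    obtain ⟨i, z, hz⟩ := hcov (PicF.XTproj f T p)
    obtain ⟨w, hw, -⟩ := Scheme.exists_preimage_of_isPullback (isPullback_XTmap f (a i)) p z hz.symm
    exact ⟨i, w, hw⟩
  choose idx hidx using hsurj
  let 𝒰 : (PicF.XT f T).OpenCover := Scheme.Cover.mkOfCovers ι (fun i => PicF.XT f (V i))
    (fun i => PicF.XTmap f (a i)) (fun p => ⟨idx p, hidx p⟩) fun i => inferInstance
  refine (existsUnique_congr fun J => ?_).1 (Groth.Agent.S11731.result (fun i => PicF.XTmap f (a i)) (fpqc_mem 𝒰) I
    fun i j => ?_)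
  · exact forall_congr' fun i => by rw [pull_eq_comap]
  let g := fun i => PicF.XTmap f (a i)
  let t₁ := pullback.fst (g i) (g j) ≫ PicF.XTproj f (V i)
  let t₂ := pullback.snd (g i) (g j) ≫ PicF.XTproj f (V j)
  have ht : t₁ ≫ (a i).left = t₂ ≫ (a j).left := by
    simp only [t₁, t₂, Category.assoc, ← (isPullback_XTmap f (a i)).w, ← (isPullback_XTmap f (a j)).w]
    rw [pullback.condition_assoc]
  let P : Over S := Over.mk (pullback.fst (a i).left (a j).left ≫ (V i).hom)
  let b : P ⟶ V i := Over.homMk (pullback.fst (a i).left (a j).left) rfl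
  let c : P ⟶ V j := Over.homMk (pullback.snd (a i).left (a j).left) (by
    show _ = pullback.fst (a i).left (a j).left ≫ (V i).hom
    rw [← Over.w (a i), ← Over.w (a j), pullback.condition_assoc])
  let m : pullback (g i) (g j) ⟶ pullback (a i).left (a j).left := pullback.lift t₁ t₂ ht
  let q : pullback (g i) (g j) ⟶ PicF.XT f P :=
    pullback.lift (pullback.fst (g i) (g j) ≫ pullback.fst f (V i).hom) m (by
      rw [Category.assoc, pullback.condition]
      simp [m, t₁, P, PicF.XTproj])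
  have h1 : q ≫ PicF.XTmap f b = pullback.fst (g i) (g j) := by
    apply pullback.hom_ext <;> simp [q, m, t₁, b, P, PicF.XTmap, PicF.XTproj]
  have h2 : q ≫ PicF.XTmap f c = pullback.snd (g i) (g j) := by
    apply pullback.hom_ext
    · have e : ∀ k, g k ≫ pullback.fst f T.hom = pullback.fst f (V k).hom := fun k => by simp [g, PicF.XTmap]
      simp [q, m, c, P, PicF.XTmap]
      rw [← e i, ← e j, pullback.condition_assoc]
    · simp [q, m, t₂, c, P, PicF.XTmap, PicF.XTproj]
  rw [← h1, ← h2, Scheme.IdealSheafData.comap_comp, Scheme.IdealSheafData.comap_comp, ← pull_eq_comap,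
    ← pull_eq_comap, hI i j P b c (Over.OverMorphism.ext pullback.condition)]

theorem isFinLocFreeOfDeg_of_pull {T : Over S} {ι : Type u} {V : ι → Over S} (a : ∀ i, V i ⟶ T)
    [∀ i, IsOpenImmersion (a i).left] (hcov : ∀ y : T.left, ∃ i, y ∈ Set.range (a i).left)
    (J : (PicF.XT f T).IdealSheafData)
    (hJ : ∀ i, Mor2.IsFinLocFreeOfDeg d ((HilbD.pull f (a i) J).subschemeι ≫ PicF.XTproj f (V i))) :
    Mor2.IsFinLocFreeOfDeg d (J.subschemeι ≫ PicF.XTproj f T) := by
  let w := J.subschemeι ≫ PicF.XTproj f T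
  choose idx hidx using hcov
  let 𝒰 : T.left.OpenCover := Scheme.Cover.mkOfCovers ι (fun i => (V i).left)
    (fun i => (a i).left) (fun p => ⟨idx p, hidx p⟩) fun i => inferInstance
  have hsq : ∀ i, ∃ (Z : Scheme.{u}) (p : Z ⟶ J.subscheme) (e : Z ≅ (HilbD.pull f (a i) J).subscheme),
      IsPullback p (e.hom ≫ (HilbD.pull f (a i) J).subschemeι ≫ PicF.XTproj f (V i)) w (a i).left := fun i => by
    refine ⟨pullback J.subschemeι (PicF.XTmap f (a i)), pullback.fst _ _,
      asIso (pullback.snd J.subschemeι (PicF.XTmap f (a i))).toImage, ?_⟩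
    have e : (pullback.snd J.subschemeι (PicF.XTmap f (a i))).toImage ≫ (HilbD.pull f (a i) J).subschemeι =
        pullback.snd J.subschemeι (PicF.XTmap f (a i)) := Scheme.Hom.toImage_imageι _
    rw [asIso_hom, reassoc_of% e]
    exact (IsPullback.of_hasPullback J.subschemeι (PicF.XTmap f (a i))).paste_vert (isPullback_XTmap f (a i))
  choose Z p e hZ using hsq
  have key : ∀ {P : MorphismProperty Scheme.{u}} [IsZariskiLocalAtTarget P] [P.RespectsIso],
      (∀ i, P ((HilbD.pull f (a i) J).subschemeι ≫ PicF.XTproj f (V i))) → P w := fun {P} _ _ h => by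
    refine IsZariskiLocalAtTarget.of_openCover (P := P) 𝒰 fun i => ?_
    have h' : P (pullback.snd w (a i).left) := by
      rw [← (hZ i).isoPullback_inv_snd, P.cancel_left_of_respectsIso, P.cancel_left_of_respectsIso]
      exact h i
    exact h'
  haveI : IsFinite w := key fun i => (hJ i).1.1
  haveI : Flat w := key fun i => (hJ i).1.2.1
  refine ⟨⟨inferInstance, inferInstance, key fun i => (hJ i).1.2.2⟩, fun y => ?_⟩
  obtain ⟨z, hz⟩ := hidx y
  rw [← hz]
  show w.finrank ((a (idx y)).left z) = d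
  haveI := (hJ (idx y)).1.1
  haveI := (hJ (idx y)).1.2.1
  rw [← Scheme.Hom.finrank_of_isPullback _ _ _ _ (hZ (idx y)) z, Scheme.Hom.finrank_comp_left_of_isIso]
  exact (hJ (idx y)).2 z

/-- The Hilbert functor of points is a Zariski sheaf. -/
theorem isSheaf_hFun : Presheaf.IsSheaf (Scheme.zariskiTopology.over S) (hFun f d) := by
  rw [isSheaf_iff_isSheaf_of_type]
  intro T R hR x hx
  obtain ⟨(𝒱 : Scheme.OpenCover.{u} T.left), hle⟩ :=
    Scheme.exists_cover_of_mem_grothendieckTopology ((GrothendieckTopology.mem_over_iff _ R).1 hR)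
  let V : 𝒱.I₀ → Over S := fun i => Over.mk (𝒱.f i ≫ T.hom)
  let a : ∀ i, V i ⟶ T := fun i => Over.homMk (𝒱.f i) rfl
  haveI : ∀ i, IsOpenImmersion (a i).left := fun i => (inferInstance : IsOpenImmersion (𝒱.f i))
  have hmem : ∀ i, R (a i) := fun i => (Sieve.overEquiv_iff R (𝒱.f i)).1 (hle _ _ (Presieve.ofArrows.mk i))
  have hcov : ∀ y : T.left, ∃ i, y ∈ Set.range (a i).left := fun y => ⟨𝒱.idx y, 𝒱.covers y⟩
  let I : ∀ i, (PicF.XT f (V i)).IdealSheafData := fun i => (x (a i) (hmem i)).1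
  obtain ⟨J, hJ, hJu⟩ := existsUnique_glue f a hcov I fun i j P b c h =>
    congrArg Subtype.val (hx b c (hmem i) (hmem j) h)
  have hJd : Mor2.IsFinLocFreeOfDeg d (J.subschemeι ≫ PicF.XTproj f T) :=
    isFinLocFreeOfDeg_of_pull f d a hcov J fun i => by rw [hJ i]; exact (x (a i) (hmem i)).2
  refine ⟨⟨J, hJd⟩, fun W g hg => ?_, fun G hG => Subtype.ext (hJu G.1 fun i => congrArg Subtype.val (hG _ (hmem i)))⟩
  let P : 𝒱.I₀ → Over S := fun i => Over.mk (pullback.fst g.left (𝒱.f i) ≫ W.hom)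
  let c : ∀ i, P i ⟶ W := fun i => Over.homMk (pullback.fst g.left (𝒱.f i)) rfl
  haveI : ∀ i, IsOpenImmersion (c i).left := fun i => (inferInstance : IsOpenImmersion (pullback.fst g.left (𝒱.f i)))
  have hcW : ∀ y : W.left, ∃ i, y ∈ Set.range (c i).left := fun y => by
    obtain ⟨i, z, hz⟩ := hcov (g.left y)
    obtain ⟨w, hw, -⟩ := Scheme.Pullback.exists_preimage_pullback y z hz.symm
    exact ⟨i, w, hw⟩
  obtain ⟨K, -, hKu⟩ := existsUnique_glue f c hcW (fun i => HilbD.pull f (c i) (x g hg).1)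
    fun i j Q b b' h => by rw [pull_pull, pull_pull, h]
  refine Subtype.ext ((hKu _ fun i => ?_).trans (hKu _ fun i => rfl).symm)
  let e : P i ⟶ V i := Over.homMk (pullback.snd g.left (𝒱.f i)) (by
    show _ ≫ 𝒱.f i ≫ T.hom = pullback.fst g.left (𝒱.f i) ≫ W.hom
    rw [← pullback.condition_assoc, Over.w g])
  have he : c i ≫ g = e ≫ a i := Over.OverMorphism.ext pullback.condition
  show HilbD.pull f (c i) (HilbD.pull f g J) = _
  rw [pull_pull, he, ← pull_pull, hJ i]
  exact (congrArg Subtype.val (hx (c i) e hg (hmem i) he)).symm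

theorem representable_of_representableBy (H : Over S) (r : (hFun f d).RepresentableBy H) :
    HilbD.Representable f d := by
  refine ⟨H, r.homEquiv (𝟙 H), fun T Z => ?_⟩
  have e : ∀ g : T ⟶ H, (r.homEquiv g : HilbD.Obj f d T).1 = HilbD.pull f g (r.homEquiv (𝟙 H) : HilbD.Obj f d H).1 :=
    fun g => congrArg Subtype.val ((congrArg r.homEquiv (Category.comp_id g).symm).trans (r.homEquiv_comp g (𝟙 H)))
  refine ⟨r.homEquiv.symm Z, ?_, fun g hg => ?_⟩
  · exact (e _).symm.trans (congrArg Subtype.val (r.homEquiv.apply_symm_apply Z))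
  · exact (r.homEquiv.eq_symm_apply).2 (Subtype.ext ((e g).trans hg))

end Groth.Agent.Stk19b.HilbPts
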