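import Groth.Agent.Stk19b.HilbPts.Chart
import Groth.Agent.Stk19b.HilbPts.Sheaf
import Groth.Agent.Stk19b.HilbPts.Locus
import Groth.Agent.FlatMor12.OverGlue2

/-!
# Representability of the Hilbert functor of points
-/

set_option autoImplicit false
set_option linter.style.haveILetI false
set_option linter.unusedSectionVars false
set_option backward.isDefEq.respectTransparency false
set_option backward.isDefEq.respectTransparency.types false

universe u

open CategoryTheory CategoryTheory.Limits AlgebraicGeometry TensorProduct Opposite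

noncomputable section

namespace Groth.Agent.Stk19b.HilbPts

open GrpdSplit

variable {X S : Scheme.{u}} (f : X ⟶ S) (d : ℕ)

/-- An affine chart of `X` over `S` with `d` functions on it. -/
structure Piece where
  A : Type u
  B : Type u
  [commA : CommRing A]
  [commB : CommRing B]
  [alg : Algebra A B]
  v : Spec (CommRingCat.of A) ⟶ S
  u : Spec (CommRingCat.of B) ⟶ X
  [vo : IsOpenImmersion v]
  [uo : IsOpenImmersion u]
  huv : u ≫ f = Spec.map (CommRingCat.ofHom (algebraMap A B)) ≫ v
  b : Fin d → B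

attribute [instance] Piece.commA Piece.commB Piece.alg Piece.vo Piece.uo

theorem residue_point {T : Scheme.{u}} (t : T) (z : Spec (T.residueField t)) :
    T.fromSpecResidueField t z = t := T.fromSpecResidueField_apply t z

variable {f d} [IsSeparated f]

/-- The scheme representing one piece, with what is needed to glue. -/
theorem exists_piece_rep (c : Piece f d) :
    ∃ (Z : Over S) (W : HilbD.Obj f d Z),
      (∀ (T : Over S) (z z' : T ⟶ Z), HilbD.pull f z W.1 = HilbD.pull f z' W.1 → z = z') ∧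
      ∀ (T : Over S) (I : HilbD.Obj f d T), ∃ O : T.left.Opens,
        (∀ (κ : Type u) [Field κ] [Algebra c.A κ] (g : base c.v κ ⟶ T),
          Good c.huv c.b κ (HilbD.pull f g I.1) → ∀ x, g.left x ∈ O) ∧
        ∀ (T' : Over S) (t : T' ⟶ T), (∃ z : T' ⟶ Z, HilbD.pull f z W.1 = HilbD.pull f t I.1) ↔
          Set.range t.left ⊆ (O : Set T.left) := by
  classical
  obtain ⟨P, _, _, J, hJ, hJmap, hJu⟩ := exists_chart c.A c.b
  let W : HilbD.Obj f d (base c.v P) := ⟨elemK c.huv J, isFinLocFreeOfDeg_elemK c.huv c.b hJ⟩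
  have hinj : ∀ (T : Over S) (z z' : T ⟶ base c.v P),
      HilbD.pull f z W.1 = HilbD.pull f z' W.1 → z = z' := by
    intro T z z' h
    refine Over.OverMorphism.ext (Scheme.Cover.hom_ext T.left.affineCover _ _ fun i => ?_)
    obtain ⟨φ₀, hφ₀⟩ := Spec.map_surjective (T.left.affineCover.f i ≫ z.left)
    letI : Algebra c.A (T.left.affineOpenCover.X i) := (φ₀.hom.comp (algebraMap c.A P)).toAlgebra
    let e : base c.v (T.left.affineOpenCover.X i) ⟶ T := Over.homMk (T.left.affineCover.f i) (by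
      show T.left.affineCover.f i ≫ T.hom = Spec.map _ ≫ c.v
      rw [← Over.w z, ← Category.assoc, ← hφ₀, RingHom.algebraMap_toAlgebra, CommRingCat.ofHom_comp, Spec.map_comp,
        CommRingCat.ofHom_hom, Category.assoc]
      rfl)
    obtain ⟨ψ, hψ⟩ := exists_eq_baseMap c.v (e ≫ z)
    obtain ⟨ψ', hψ'⟩ := exists_eq_baseMap c.v (e ≫ z')
    have h2 := congrArg (HilbD.pull f e) h
    rw [HilbSh8.pull_pull, HilbSh8.pull_pull, ← hψ, ← hψ', pull_elemK c.huv c.b hJ,
      pull_elemK c.huv c.b hJ] at h2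
    have h3 := eq_of_elemK_eq c.huv c.b (hJmap _ ψ) (hJmap _ ψ') h2
    obtain ⟨ψ'', -, hu⟩ := hJu _ _ (hJmap _ ψ)
    have : ψ = ψ' := (hu ψ rfl).trans (hu ψ' h3.symm).symm
    exact congrArg CommaMorphism.left (hψ.symm.trans ((congrArg (baseMap c.v) this).trans hψ'))
  refine ⟨base c.v P, W, hinj, fun T I => ?_⟩
  let O : Set T.left := {p | ∃ (R : Type u) (_ : CommRing R) (_ : Algebra c.A R) (e : base c.v R ⟶ T),
    IsOpenImmersion e.left ∧ p ∈ Set.range e.left ∧ Good c.huv c.b R (HilbD.pull f e I.1)}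
  have hO : IsOpen O := isOpen_iff_forall_mem_open.2 fun p ⟨R, _, _, e, he, hp, hgood⟩ =>
    ⟨_, fun q hq => ⟨R, inferInstance, inferInstance, e, he, hq, hgood⟩, e.left.opensRange.isOpen, hp⟩
  have hfield : ∀ (κ : Type u) [Field κ] [Algebra c.A κ] (g : base c.v κ ⟶ T),
      Good c.huv c.b κ (HilbD.pull f g I.1) → ∀ x, g.left x ∈ O :=
    fun κ _ _ g hg x => exists_good_open c.huv c.b I.1 I.2 g hg x
  refine ⟨⟨O, hO⟩, hfield, fun T' t => ⟨fun ⟨z, hz⟩ => ?_, fun ht => ?_⟩⟩
  · rintro _ ⟨y, rfl⟩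
    let κ : Type u := T'.left.residueField y
    obtain ⟨φ₀, hφ₀⟩ := Spec.map_surjective (T'.left.fromSpecResidueField y ≫ z.left)
    letI : Algebra c.A κ := (φ₀.hom.comp (algebraMap c.A P)).toAlgebra
    let g : base c.v κ ⟶ T' := Over.homMk (T'.left.fromSpecResidueField y) (by
      show T'.left.fromSpecResidueField y ≫ T'.hom = Spec.map _ ≫ c.v
      rw [← Over.w z, ← Category.assoc, ← hφ₀, RingHom.algebraMap_toAlgebra, CommRingCat.ofHom_comp, Spec.map_comp,
        CommRingCat.ofHom_hom, Category.assoc]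
      rfl)
    obtain ⟨ψ, hψ⟩ := exists_eq_baseMap c.v (g ≫ z)
    have hgood : Good c.huv c.b κ (HilbD.pull f (g ≫ t) I.1) := by
      rw [← HilbSh8.pull_pull, ← hz, HilbSh8.pull_pull, ← hψ, pull_elemK c.huv c.b hJ]
      exact ⟨_, hJmap _ ψ, rfl⟩
    obtain ⟨x⟩ := (inferInstance : Nonempty (Spec (T'.left.residueField y)))
    have h := hfield κ (g ≫ t) hgood x
    rw [Over.comp_left, Scheme.Hom.comp_apply] at h
    rwa [show g.left x = y from residue_point y x] at h
  · have key : ∀ y : T'.left, ∃ (V : Over S) (a : V ⟶ T') (z : V ⟶ base c.v P),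
        IsOpenImmersion a.left ∧ y ∈ Set.range a.left ∧ HilbD.pull f z W.1 = HilbD.pull f (a ≫ t) I.1 := by
      intro y
      obtain ⟨R, _, _, e, he, hp, K, hK, hKe⟩ := ht ⟨y, rfl⟩
      obtain ⟨W', hW', hyW', hW'le⟩ := exists_isAffineOpen_mem_and_subset
        (x := y) (U := t.left ⁻¹ᵁ e.left.opensRange) hp
      have hin : Set.range (hW'.fromSpec ≫ t.left) ⊆ Set.range e.left := by
        rintro _ ⟨q, rfl⟩
        exact hW'le (hW'.range_fromSpec.le ⟨q, rfl⟩)
      obtain ⟨φ₀, hφ₀⟩ := Spec.map_surjective (IsOpenImmersion.lift e.left (hW'.fromSpec ≫ t.left) hin)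
      letI : Algebra c.A Γ(T'.left, W') := (φ₀.hom.comp (algebraMap c.A R)).toAlgebra
      have hw : hW'.fromSpec ≫ T'.hom =
          Spec.map (CommRingCat.ofHom (algebraMap c.A Γ(T'.left, W'))) ≫ c.v := by
        rw [← Over.w t, ← Category.assoc,
          ← IsOpenImmersion.lift_fac e.left (hW'.fromSpec ≫ t.left) hin, ← hφ₀, Category.assoc, Over.w e,
          RingHom.algebraMap_toAlgebra, CommRingCat.ofHom_comp, Spec.map_comp, CommRingCat.ofHom_hom, Category.assoc]
        rfl
      let a : base c.v Γ(T'.left, W') ⟶ T' := Over.homMk hW'.fromSpec hw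
      let e' : base c.v Γ(T'.left, W') ⟶ base c.v R :=
        Over.homMk (IsOpenImmersion.lift e.left (hW'.fromSpec ≫ t.left) hin) (by
          rw [← Over.w e, IsOpenImmersion.lift_fac_assoc, Category.assoc, Over.w t]
          exact hw)
      obtain ⟨φ, hφ⟩ := exists_eq_baseMap c.v e'
      obtain ⟨ψ, hψ, -⟩ := hJu _ _ (isBasisQuot_map c.b hK φ)
      refine ⟨_, a, baseMap c.v ψ, hW'.isOpenImmersion_fromSpec, hW'.range_fromSpec.ge hyW', ?_⟩
      have hae : a ≫ t = e' ≫ e := Over.OverMorphism.ext (IsOpenImmersion.lift_fac _ _ _).symm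
      rw [hae, ← HilbSh8.pull_pull, hKe, ← hφ, pull_elemK c.huv c.b hK, pull_elemK c.huv c.b hJ, hψ]
    choose V a z ha hya hz using key
    haveI := ha
    let 𝒰 : T'.left.OpenCover := Scheme.Cover.mkOfCovers T'.left (fun i => (V i).left)
      (fun i => (a i).left) (fun p => ⟨p, hya p⟩) ha
    have hagree : ∀ i j, pullback.fst (a i).left (a j).left ≫ (z i).left =
        pullback.snd (a i).left (a j).left ≫ (z j).left := fun i j => by
      let Q : Over S := Over.mk (pullback.fst (a i).left (a j).left ≫ (V i).hom)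
      let p₁ : Q ⟶ V i := Over.homMk (pullback.fst (a i).left (a j).left) rfl
      let p₂ : Q ⟶ V j := Over.homMk (pullback.snd (a i).left (a j).left) (by
        show _ = pullback.fst (a i).left (a j).left ≫ (V i).hom
        rw [← Over.w (a i), ← Over.w (a j), pullback.condition_assoc])
      have hp : p₁ ≫ a i = p₂ ≫ a j := Over.OverMorphism.ext pullback.condition
      refine congrArg CommaMorphism.left (hinj Q (p₁ ≫ z i) (p₂ ≫ z j) ?_)
      rw [← HilbSh8.pull_pull, ← HilbSh8.pull_pull, hz, hz, HilbSh8.pull_pull, HilbSh8.pull_pull,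
        ← Category.assoc, ← Category.assoc, hp]
    let zz := Scheme.Cover.glueMorphisms 𝒰 (fun i => (z i).left) hagree
    have hzz : ∀ i, (a i).left ≫ zz = (z i).left := fun i => Scheme.Cover.ι_glueMorphisms 𝒰 _ hagree i
    let zO : T' ⟶ base c.v P := Over.homMk zz (Scheme.Cover.hom_ext 𝒰 _ _ fun i => by
      show (a i).left ≫ zz ≫ (base c.v P).hom = (a i).left ≫ T'.hom
      rw [reassoc_of% (hzz i), Over.w (z i), Over.w (a i)])
    refine ⟨zO, ?_⟩
    obtain ⟨G, -, hG⟩ := existsUnique_glue f a (fun y => ⟨y, hya y⟩)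
      (fun i => HilbD.pull f (a i ≫ t) I.1)
      (fun i j Q p q h => by rw [HilbSh8.pull_pull, HilbSh8.pull_pull, ← Category.assoc, h, Category.assoc])
    refine (hG _ fun i => ?_).trans (hG _ fun i => HilbSh8.pull_pull f _ _ _).symm
    rw [HilbSh8.pull_pull, ← hz i, show a i ≫ zO = z i from Over.OverMorphism.ext (hzz i)]

/-- The Hilbert functor is representable as soon as the pieces cover it. -/
theorem representable_of_cover {ι : Type u} (c : ι → Piece f d)
    (hc : ∀ (T : Over S) (I : HilbD.Obj f d T) (p : T.left), ∃ i, ∃ (κ : Type u) (_ : Field κ)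
      (_ : Algebra (c i).A κ) (g : base (c i).v κ ⟶ T) (x : Spec (CommRingCat.of κ)),
      g.left x = p ∧ Good (c i).huv (c i).b κ (HilbD.pull f g I.1)) : HilbD.Representable f d := by
  choose Z W hinj hloc using fun i => exists_piece_rep (c i)
  choose O hO1 hO2 using hloc
  let j : ∀ i, (yoneda.obj (Z i) : (Over S)ᵒᵖ ⥤ Type u) ⟶ hFun f d := fun i =>
    { app := fun T => TypeCat.ofHom fun z => objPull f d (z : T.unop ⟶ Z i) (W i)
      naturality := fun T T' a => ConcreteCategory.hom_ext _ _ fun z =>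
        Subtype.ext (HilbSh8.pull_pull f a.unop (z : T.unop ⟶ Z i) (W i).1).symm }
  obtain ⟨H, ⟨r⟩⟩ := FlatMor12.OverGlue2.exists_representableBy_of_openPieces (hFun f d) Z j
    (fun i T z z' h => hinj i T z z' (congrArg Subtype.val h))
    (fun i T I => O i T I)
    (fun T I => by
      refine eq_top_iff.2 fun p _ => ?_
      obtain ⟨i, κ, _, _, g, x, hx, hg⟩ := hc T I p
      exact TopologicalSpace.Opens.mem_iSup.2 ⟨i, hx ▸ hO1 i T I κ g hg x⟩)
    (fun i T T' t I => by
      rw [← hO2 i T I T' t]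
      exact exists_congr fun z => ⟨fun h => congrArg Subtype.val h, fun h => Subtype.ext h⟩)
    (isSheaf_hFun f d)
  exact representable_of_representableBy f d H r

end Groth.Agent.Stk19b.HilbPts
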