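import Groth.Agent.Stk19b.GrpdSplit.Chart
import Groth.Agent.HilbSh8.Locus
import Mathlib.AlgebraicGeometry.Morphisms.Finite
import Mathlib.RingTheory.Spectrum.Prime.FreeLocus
import Mathlib.RingTheory.LocalRing.Module
import Mathlib.RingTheory.Flat.FaithfullyFlat.Basic

/-!
# Families of points in an affine chart
-/

set_option autoImplicit false
set_option linter.style.haveILetI false
set_option linter.unusedSectionVars false
set_option backward.isDefEq.respectTransparency false
set_option backward.isDefEq.respectTransparency.types false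

universe u

open CategoryTheory CategoryTheory.Limits AlgebraicGeometry TensorProduct

noncomputable section

namespace Groth.Agent.Stk19b.HilbPts

open GrpdSplit

theorem exists_iso_of_ker_eq {Z Z' P : Scheme.{u}} (w : Z ⟶ P) (w' : Z' ⟶ P) [IsClosedImmersion w]
    [IsClosedImmersion w'] (h : w.ker = w'.ker) : ∃ e : Z ≅ Z', e.hom ≫ w' = w := by
  refine ⟨⟨IsClosedImmersion.lift w' w h.ge, IsClosedImmersion.lift w w' h.le, ?_, ?_⟩,
    IsClosedImmersion.lift_fac _ _ _⟩
  · rw [← cancel_mono w, Category.assoc, IsClosedImmersion.lift_fac, IsClosedImmersion.lift_fac, Category.id_comp]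
  · rw [← cancel_mono w', Category.assoc, IsClosedImmersion.lift_fac, IsClosedImmersion.lift_fac, Category.id_comp]

theorem isPullback_of_bases {R R' Q Q' : Type u} [CommRing R] [CommRing R'] [CommRing Q] [CommRing Q'] [Algebra R Q]
    [Algebra R' Q'] {ι : Type*} (ψ : R →+* R') (bas : Module.Basis ι R Q) (bas' : Module.Basis ι R' Q') (χ : Q →+* Q')
    (hc : ∀ r, χ (algebraMap R Q r) = algebraMap R' Q' (ψ r)) (hbas : ∀ j, χ (bas j) = bas' j) :
    IsPullback (Spec.map (CommRingCat.ofHom χ)) (Spec.map (CommRingCat.ofHom (algebraMap R' Q')))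
      (Spec.map (CommRingCat.ofHom (algebraMap R Q))) (Spec.map (CommRingCat.ofHom ψ)) := by
  letI : Algebra R R' := ψ.toAlgebra
  letI : Algebra Q Q' := χ.toAlgebra
  letI : Algebra R Q' := ((algebraMap R' Q').comp ψ).toAlgebra
  haveI : IsScalarTower R R' Q' := IsScalarTower.of_algebraMap_eq fun _ => rfl
  haveI : IsScalarTower R Q Q' := IsScalarTower.of_algebraMap_eq fun r => (hc r).symm
  haveI : Algebra.IsPushout R R' Q Q' := by
    refine ⟨IsBaseChange.of_equiv ((Algebra.TensorProduct.basis R' bas).equiv bas' (Equiv.refl _)) fun x => ?_⟩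
    have key : (((Algebra.TensorProduct.basis R' bas).equiv bas' (Equiv.refl _)).toLinearMap.restrictScalars R).comp
        (TensorProduct.mk R R' Q 1) = (IsScalarTower.toAlgHom R Q Q').toLinearMap := by
      refine bas.ext fun j => ?_
      show ((Algebra.TensorProduct.basis R' bas).equiv bas' (Equiv.refl _)) ((1 : R') ⊗ₜ[R] bas j) = χ (bas j)
      rw [← Algebra.TensorProduct.basis_apply, Module.Basis.equiv_apply, Equiv.refl_apply, hbas]
    exact LinearMap.congr_fun key x
  exact isPullback_SpecMap_of_isPushout _ _ _ _ (CommRingCat.isPushout_of_isPushout R R' Q Q').flip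

theorem isFinLocFreeOfDeg_of_basis {R Q : Type u} [CommRing R] [CommRing Q] [Algebra R Q] {n : ℕ}
    (bas : Module.Basis (Fin n) R Q) {Z : Scheme.{u}} {g : Z ⟶ Spec (CommRingCat.of R)}
    (e : Z ⟶ Spec (CommRingCat.of Q)) [IsIso e] (h : g = e ≫ Spec.map (CommRingCat.ofHom (algebraMap R Q))) :
    Mor2.IsFinLocFreeOfDeg n g := by
  haveI : Module.Finite R Q := .of_basis bas
  haveI : Module.Free R Q := .of_basis bas
  haveI : Module.FinitePresentation R Q := Module.finitePresentation_of_projective R Q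
  haveI i1 : IsFinite (Spec.map (CommRingCat.ofHom (algebraMap R Q))) :=
    (IsFinite.SpecMap_iff _).2 (RingHom.finite_algebraMap.2 inferInstance)
  haveI i2 : Flat (Spec.map (CommRingCat.ofHom (algebraMap R Q))) :=
    Flat.SpecMap_iff.2 (RingHom.flat_algebraMap_iff.2 inferInstance)
  haveI i3 : LocallyOfFinitePresentation (Spec.map (CommRingCat.ofHom (algebraMap R Q))) :=
    (LocallyOfFinitePresentation.SpecMap_iff _).2 (RingHom.finitePresentation_algebraMap.2 inferInstance)
  rw [h]
  refine ⟨⟨inferInstance, inferInstance, inferInstance⟩, fun y => ?_⟩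
  haveI : Nontrivial R := PrimeSpectrum.nontrivial y
  rw [Scheme.Hom.finrank_comp_left_of_isIso, Scheme.Hom.finrank_SpecMap_algebraMap,
    Module.rankAtStalk_eq_finrank_of_free, Module.finrank_eq_card_basis bas, Fintype.card_fin]
  rfl

variable {X S : Scheme.{u}} (f : X ⟶ S)

/-- Closed subschemes given by closed immersions pull back to those given by the base change. -/
theorem ker_eq_pull {T T' : Over S} (g : T' ⟶ T) {Z Z' : Scheme.{u}} (w : Z ⟶ PicF.XT f T) [IsClosedImmersion w]
    (w' : Z' ⟶ PicF.XT f T') (t : Z' ⟶ Z) (hw : t ≫ w = w' ≫ PicF.XTmap f g)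
    (h : IsPullback t (w' ≫ PicF.XTproj f T') (w ≫ PicF.XTproj f T) g.left) :
    HilbD.pull f g w.ker = w'.ker ∧ IsClosedImmersion w' := by
  have top : IsPullback t w' w (PicF.XTmap f g) := IsPullback.of_bot h hw (HilbSh8.isPullback_XTmap f g)
  refine ⟨?_, MorphismProperty.of_isPullback top inferInstance⟩
  rw [HilbSh8.pull_eq_comap, ← Scheme.IdealSheafData.ker_fst_of_isClosedImmersion, ← top.flip.isoPullback_inv_fst,
    Scheme.Hom.ker_comp_of_isIso]

variable {A B : Type u} [CommRing A] [CommRing B] [Algebra A B] (v : Spec (CommRingCat.of A) ⟶ S)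

/-- An `A`-algebra as a scheme over `S`. -/
abbrev base (R : Type u) [CommRing R] [Algebra A R] : Over S :=
  Over.mk (Spec.map (CommRingCat.ofHom (algebraMap A R)) ≫ v)

omit [Algebra A B] [CommRing B] in
theorem specMap_algHom {R R' : Type u} [CommRing R] [Algebra A R] [CommRing R'] [Algebra A R'] (φ : R →ₐ[A] R') :
    Spec.map (CommRingCat.ofHom φ.toRingHom) ≫ Spec.map (CommRingCat.ofHom (algebraMap A R)) =
      Spec.map (CommRingCat.ofHom (algebraMap A R')) := by
  rw [← Spec.map_comp, ← CommRingCat.ofHom_comp]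
  exact congrArg (fun h => Spec.map (CommRingCat.ofHom h)) φ.comp_algebraMap

/-- The morphism of an algebra map. -/
def baseMap {R R' : Type u} [CommRing R] [Algebra A R] [CommRing R'] [Algebra A R'] (ψ : R →ₐ[A] R') :
    base v R' ⟶ base v R :=
  Over.homMk (Spec.map (CommRingCat.ofHom ψ.toRingHom)) (by
    show _ ≫ Spec.map _ ≫ v = Spec.map _ ≫ v
    rw [← Category.assoc, specMap_algHom])

theorem exists_eq_baseMap [Mono v] {R R' : Type u} [CommRing R] [Algebra A R] [CommRing R'] [Algebra A R']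
    (z : base v R' ⟶ base v R) : ∃ ψ : R →ₐ[A] R', baseMap v ψ = z := by
  obtain ⟨φ, hφ⟩ := Spec.map_surjective z.left
  have h : Spec.map φ ≫ Spec.map (CommRingCat.ofHom (algebraMap A R)) =
      Spec.map (CommRingCat.ofHom (algebraMap A R')) := by
    rw [← cancel_mono v, Category.assoc, hφ]
    exact Over.w z
  rw [← Spec.map_comp] at h
  refine ⟨{ φ.hom with commutes' := fun a => ?_ }, Over.OverMorphism.ext hφ⟩
  exact RingHom.congr_fun (congrArg CommRingCat.Hom.hom (Spec.map_injective h)) a

theorem baseMap_comp {R R' R'' : Type u} [CommRing R] [Algebra A R] [CommRing R'] [Algebra A R'] [CommRing R'']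
    [Algebra A R''] (ψ : R →ₐ[A] R') (φ : R' →ₐ[A] R'') : baseMap v φ ≫ baseMap v ψ = baseMap v (φ.comp ψ) :=
  Over.OverMorphism.ext (by
    show Spec.map _ ≫ Spec.map _ = Spec.map _
    rw [← Spec.map_comp, ← CommRingCat.ofHom_comp]
    rfl)

variable {f} {v} {u : Spec (CommRingCat.of B) ⟶ X}
  (huv : u ≫ f = Spec.map (CommRingCat.ofHom (algebraMap A B)) ≫ v) {n : ℕ} (b : Fin n → B)

section

variable (R : Type u) [CommRing R] [Algebra A R]

/-- The chart of `X_R`. -/
def ιR : Spec (CommRingCat.of (R ⊗[A] B)) ⟶ PicF.XT f (base v R) :=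
  pullback.lift (Spec.map (CommRingCat.ofHom (Algebra.TensorProduct.includeRight (R := A) (A := R) (B := B)).toRingHom) ≫ u)
    (Spec.map (CommRingCat.ofHom (algebraMap R (R ⊗[A] B)))) (by
      rw [Category.assoc, huv, ← Category.assoc, specMap_algHom]
      show _ = _ ≫ Spec.map _ ≫ v
      rw [← Category.assoc, ← Spec.map_comp, ← CommRingCat.ofHom_comp, ← IsScalarTower.algebraMap_eq])

theorem ιR_fst : ιR huv R ≫ pullback.fst f (base v R).hom =
    Spec.map (CommRingCat.ofHom (Algebra.TensorProduct.includeRight (R := A) (A := R) (B := B)).toRingHom) ≫ u :=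
  pullback.lift_fst _ _ _

theorem ιR_proj : ιR huv R ≫ PicF.XTproj f (base v R) = Spec.map (CommRingCat.ofHom (algebraMap R (R ⊗[A] B))) :=
  pullback.lift_snd _ _ _

theorem mono_ιR [Mono u] : Mono (ιR huv R) := by
  refine ⟨fun {Z} a a' h => ?_⟩
  rw [← cancel_mono (pullbackSpecIso A R B).inv]
  apply pullback.hom_ext
  · rw [Category.assoc, Category.assoc, pullbackSpecIso_inv_fst']
    have := congrArg (· ≫ PicF.XTproj f (base v R)) h
    simpa [ιR_proj] using this
  · rw [Category.assoc, Category.assoc, pullbackSpecIso_inv_snd, ← cancel_mono u]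
    have := congrArg (· ≫ pullback.fst f (base v R).hom) h
    simp only [Category.assoc, ιR_fst] at this
    simp only [Category.assoc]
    exact this

variable {R}

/-- The closed immersion of a quotient of the chart. -/
def wK (K : Ideal (R ⊗[A] B)) : Spec (CommRingCat.of ((R ⊗[A] B) ⧸ K)) ⟶ PicF.XT f (base v R) :=
  Spec.map (CommRingCat.ofHom (Ideal.Quotient.mk K)) ≫ ιR huv R

theorem wK_proj (K : Ideal (R ⊗[A] B)) :
    wK huv K ≫ PicF.XTproj f (base v R) = Spec.map (CommRingCat.ofHom (algebraMap R ((R ⊗[A] B) ⧸ K))) := by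
  rw [wK, Category.assoc, ιR_proj, ← Spec.map_comp, ← CommRingCat.ofHom_comp]
  rfl

theorem wK_fst (K : Ideal (R ⊗[A] B)) :
    wK huv K ≫ pullback.fst f (base v R).hom =
      Spec.map (CommRingCat.ofHom ((Ideal.Quotient.mk K).comp
        (Algebra.TensorProduct.includeRight (R := A) (A := R) (B := B)).toRingHom)) ≫ u := by
  rw [wK, Category.assoc, ιR_fst, ← Category.assoc, ← Spec.map_comp, ← CommRingCat.ofHom_comp]

theorem exists_basis {K : Ideal (R ⊗[A] B)} (hK : IsBasisQuot b R K) :
    ∃ bas : Module.Basis (Fin n) R ((R ⊗[A] B) ⧸ K), ∀ j, bas j = Ideal.Quotient.mk K ((1 : R) ⊗ₜ[A] b j) := by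
  classical
  let e : (Fin n → R) →ₗ[R] (R ⊗[A] B) ⧸ K := (Ideal.Quotient.mkₐ R K).toLinearMap.comp (comb b R)
  have he : Function.Bijective e := by
    refine ⟨(injective_iff_map_eq_zero _).2 fun v hv => hK.2 v (Ideal.Quotient.eq_zero_iff_mem.1 hv), fun z => ?_⟩
    obtain ⟨z, rfl⟩ := Ideal.Quotient.mk_surjective z
    obtain ⟨v, hv⟩ := hK.1 z
    exact ⟨v, (Ideal.Quotient.eq.2 hv).symm⟩
  refine ⟨Module.Basis.ofEquivFun (LinearEquiv.ofBijective e he).symm, fun j => ?_⟩
  simp [e, comb, Pi.single_apply, ite_smul]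

theorem smul_quot (K : Ideal (R ⊗[A] B)) (r : R) (z : (R ⊗[A] B) ⧸ K) :
    r • z = algebraMap R _ r * z := by
  obtain ⟨z, rfl⟩ := Ideal.Quotient.mk_surjective z
  show Ideal.Quotient.mk K (r • z) = Ideal.Quotient.mk K (algebraMap R (R ⊗[A] B) r) * Ideal.Quotient.mk K z
  rw [← map_mul, Algebra.smul_def]

variable [Mono u] [IsSeparated f]

theorem isClosedImmersion_wK {K : Ideal (R ⊗[A] B)} (hK : IsBasisQuot b R K) : IsClosedImmersion (wK huv K) := by
  obtain ⟨bas, -⟩ := exists_basis b hK
  haveI : Module.Finite R ((R ⊗[A] B) ⧸ K) := .of_basis bas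
  haveI := mono_ιR huv R
  haveI : IsClosedImmersion (Spec.map (CommRingCat.ofHom (Ideal.Quotient.mk K))) :=
    IsClosedImmersion.spec_of_surjective _ Ideal.Quotient.mk_surjective
  rw [IsClosedImmersion.iff_isFinite_and_mono]
  refine ⟨?_, by unfold wK; infer_instance⟩
  haveI : IsSeparated (PicF.XTproj f (base v R)) := by
    show IsSeparated (pullback.snd f (base v R).hom)
    infer_instance
  haveI : IsFinite (wK huv K ≫ PicF.XTproj f (base v R)) := by
    rw [wK_proj, IsFinite.SpecMap_iff]
    exact RingHom.finite_algebraMap.2 inferInstance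
  exact MorphismProperty.of_postcomp @IsFinite (wK huv K) (PicF.XTproj f (base v R)) ‹IsSeparated _› ‹_›

/-- The closed subscheme of a quotient of the chart. -/
def elemK (K : Ideal (R ⊗[A] B)) : (PicF.XT f (base v R)).IdealSheafData := (wK huv K).ker

theorem eq_of_elemK_eq {K K' : Ideal (R ⊗[A] B)} (hK : IsBasisQuot b R K) (hK' : IsBasisQuot b R K')
    (h : elemK huv K = elemK huv K') : K = K' := by
  haveI := isClosedImmersion_wK huv b hK
  haveI := isClosedImmersion_wK huv b hK'
  haveI := mono_ιR huv R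
  obtain ⟨e, he⟩ := exists_iso_of_ker_eq _ _ h
  rw [wK, wK, ← Category.assoc, cancel_mono] at he
  obtain ⟨χ, hχ⟩ := Spec.map_surjective e.hom
  rw [← hχ, ← Spec.map_comp] at he
  refine (hK.eq_of_le b hK' fun z hz => ?_).symm
  have := RingHom.congr_fun (congrArg CommRingCat.Hom.hom (Spec.map_injective he)) z
  simp only [CommRingCat.hom_comp, CommRingCat.hom_ofHom, RingHom.comp_apply] at this
  rw [Ideal.Quotient.eq_zero_iff_mem.2 hz, map_zero] at this
  exact Ideal.Quotient.eq_zero_iff_mem.1 this.symm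

theorem isBasisQuot_map {K : Ideal (R ⊗[A] B)} (hK : IsBasisQuot b R K) {R' : Type u} [CommRing R'] [Algebra A R']
    (ψ : R →ₐ[A] R') : IsBasisQuot b R' (K.map (mapT ψ)) := by
  obtain ⟨σ, d, hd, rfl⟩ := exists_datum_of_isBasisQuot b hK
  rw [map_ann b σ d ψ hd]
  exact isBasisQuot_ann b _ _ (isDatum_map b σ d ψ hd)

theorem pull_elemK {K : Ideal (R ⊗[A] B)} (hK : IsBasisQuot b R K) {R' : Type u} [CommRing R'] [Algebra A R']
    (ψ : R →ₐ[A] R') : HilbD.pull f (baseMap v ψ) (elemK huv K) = elemK huv (K.map (mapT ψ)) := by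
  classical
  haveI := isClosedImmersion_wK huv b hK
  let K' := K.map (mapT (B := B) ψ)
  let Q := (R ⊗[A] B) ⧸ K
  let Q' := (R' ⊗[A] B) ⧸ K'
  let χ : Q →+* Q' := Ideal.quotientMap K' (mapT (B := B) ψ).toRingHom Ideal.le_comap_map
  have hχ : ∀ z, χ (Ideal.Quotient.mk K z) = Ideal.Quotient.mk K' (mapT (B := B) ψ z) := fun z => rfl
  obtain ⟨bas, hbas⟩ := exists_basis b hK
  obtain ⟨bas', hbas'⟩ := exists_basis b (isBasisQuot_map b hK ψ)
  have hc : ∀ r : R, χ (algebraMap R Q r) = algebraMap R' Q' (ψ r) := fun r => by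
    show χ (Ideal.Quotient.mk K (r ⊗ₜ[A] (1 : B))) = Ideal.Quotient.mk K' (ψ r ⊗ₜ[A] (1 : B))
    rw [hχ, Algebra.TensorProduct.map_tmul, map_one]
  have hpb := isPullback_of_bases ψ.toRingHom bas bas' χ hc fun j => by
    rw [hbas, hbas', hχ, Algebra.TensorProduct.map_tmul, map_one]
    rfl
  refine (ker_eq_pull f (baseMap v ψ) (wK huv K) (wK huv K') (Spec.map (CommRingCat.ofHom χ)) ?_ ?_).1
  · apply pullback.hom_ext
    · have e : PicF.XTmap f (baseMap v ψ) ≫ pullback.fst f (base v R).hom = pullback.fst f (base v R').hom := by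
        simp [PicF.XTmap]
      rw [Category.assoc, Category.assoc, e, wK_fst, wK_fst, ← Category.assoc, ← Spec.map_comp,
        ← CommRingCat.ofHom_comp]
      congr 3
      refine RingHom.ext fun y => ?_
      show χ (Ideal.Quotient.mk K ((1 : R) ⊗ₜ[A] y)) = Ideal.Quotient.mk K' ((1 : R') ⊗ₜ[A] y)
      rw [hχ, Algebra.TensorProduct.map_tmul, map_one]
      rfl
    · rw [Category.assoc, Category.assoc]
      show _ ≫ wK huv K ≫ PicF.XTproj f _ = wK huv K' ≫ PicF.XTmap f _ ≫ PicF.XTproj f _
      rw [(HilbSh8.isPullback_XTmap f (baseMap v ψ)).w, wK_proj, ← Category.assoc, wK_proj, ← Spec.map_comp]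
      show _ = Spec.map _ ≫ Spec.map _
      rw [← Spec.map_comp, ← CommRingCat.ofHom_comp, ← CommRingCat.ofHom_comp]
      exact congrArg (fun h => Spec.map (CommRingCat.ofHom h)) (RingHom.ext hc : χ.comp (algebraMap R Q) = (algebraMap R' Q').comp ψ.toRingHom)
  · rw [wK_proj, wK_proj]
    exact hpb

theorem isFinLocFreeOfDeg_elemK {K : Ideal (R ⊗[A] B)} (hK : IsBasisQuot b R K) :
    Mor2.IsFinLocFreeOfDeg n ((elemK huv K).subschemeι ≫ PicF.XTproj f (base v R)) := by
  haveI := isClosedImmersion_wK huv b hK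
  obtain ⟨bas, -⟩ := exists_basis b hK
  let w := wK huv K
  refine isFinLocFreeOfDeg_of_basis bas (inv w.toImage) ?_
  rw [← wK_proj huv K, IsIso.eq_inv_comp, ← Category.assoc]
  congr 1
  exact Scheme.Hom.toImage_imageι w

variable (R) in
/-- An element lying in the chart. -/
def Good (I : (PicF.XT f (base v R)).IdealSheafData) : Prop := ∃ K, IsBasisQuot b R K ∧ I = elemK huv K

/-- An element given by a finite algebra mapped into the chart, with the given elements a basis, is good. -/
theorem good_of_fam [Mono v] {Q : Type u} [CommRing Q] [Algebra R Q]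
    (w : Spec (CommRingCat.of Q) ⟶ PicF.XT f (base v R))
    (hw : w ≫ PicF.XTproj f (base v R) = Spec.map (CommRingCat.ofHom (algebraMap R Q)))
    (q : B →+* Q) (hq : Spec.map (CommRingCat.ofHom q) ≫ u = w ≫ pullback.fst f (base v R).hom)
    (hb : Function.Bijective fun x : Fin n → R => ∑ j, x j • q (b j)) : Good huv b R w.ker := by
  classical
  letI : Algebra A Q := ((algebraMap R Q).comp (algebraMap A R)).toAlgebra
  haveI : IsScalarTower A R Q := IsScalarTower.of_algebraMap_eq fun _ => rfl
  have hcomp : q.comp (algebraMap A B) = (algebraMap R Q).comp (algebraMap A R) := by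
    have h : Spec.map (CommRingCat.ofHom q) ≫ Spec.map (CommRingCat.ofHom (algebraMap A B)) =
        Spec.map (CommRingCat.ofHom (algebraMap R Q)) ≫ Spec.map (CommRingCat.ofHom (algebraMap A R)) := by
      rw [← cancel_mono v, Category.assoc, Category.assoc, ← huv, reassoc_of% hq, pullback.condition, ← hw,
        Category.assoc]
      rfl
    rw [← Spec.map_comp, ← Spec.map_comp] at h
    exact congrArg CommRingCat.Hom.hom (Spec.map_injective h)
  let qA : B →ₐ[A] Q := { q with commutes' := fun a => RingHom.congr_fun hcomp a }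
  let Φ : R ⊗[A] B →ₐ[R] Q := Algebra.TensorProduct.lift (Algebra.ofId R Q) qA fun r y => Commute.all _ _
  have hΦ : ∀ r y, Φ (r ⊗ₜ[A] y) = r • q y := fun r y => by
    rw [Algebra.smul_def]; exact Algebra.TensorProduct.lift_tmul _ _ _ _ _
  have hcomb : ∀ x, Φ (comb b R x) = ∑ j, x j • q (b j) := fun x => by
    show Φ (∑ j, x j • ((1 : R) ⊗ₜ[A] b j)) = _
    simp only [map_sum, map_smul, hΦ, one_smul]
  have hK : IsBasisQuot b R (RingHom.ker Φ) := by
    refine ⟨fun z => ?_, fun x hx => hb.1 ?_⟩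
    · obtain ⟨x, hx⟩ := hb.2 (Φ z)
      exact ⟨x, by rw [RingHom.mem_ker, map_sub, hcomb]; exact sub_eq_zero.2 hx.symm⟩
    · rw [RingHom.mem_ker, hcomb] at hx
      simpa using hx
  have hsurj : Function.Surjective Φ := fun z => by
    obtain ⟨x, hx⟩ := hb.2 z
    exact ⟨comb b R x, (hcomb x).trans hx⟩
  let θ := Ideal.quotientKerAlgEquivOfSurjective hsurj
  refine ⟨RingHom.ker Φ, hK, ?_⟩
  let e : Spec (CommRingCat.of Q) ≅ Spec (CommRingCat.of ((R ⊗[A] B) ⧸ RingHom.ker Φ)) :=
    Scheme.Spec.mapIso θ.toRingEquiv.toCommRingCatIso.op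
  have he : e.hom ≫ wK huv (RingHom.ker Φ) = w := by
    have h1 : (θ.toRingEquiv.toRingHom).comp (Ideal.Quotient.mk (RingHom.ker Φ)) = Φ.toRingHom :=
      RingHom.ext fun z => rfl
    have h2 : e.hom ≫ Spec.map (CommRingCat.ofHom (Ideal.Quotient.mk (RingHom.ker Φ))) =
        Spec.map (CommRingCat.ofHom Φ.toRingHom) := by
      show Spec.map _ ≫ Spec.map _ = _
      rw [← Spec.map_comp, ← h1]
      rfl
    rw [wK, reassoc_of% h2]
    apply pullback.hom_ext
    · rw [Category.assoc, ιR_fst, ← Category.assoc, ← Spec.map_comp, ← CommRingCat.ofHom_comp, ← hq]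
      congr 3
      exact RingHom.ext fun y => (hΦ 1 y).trans (one_smul _ _)
    · show _ ≫ ιR huv R ≫ PicF.XTproj f _ = w ≫ PicF.XTproj f _
      rw [ιR_proj, hw, specMap_algHom]
  rw [elemK, ← he, Scheme.Hom.ker_comp_of_isIso]

/-- Elements of the Hilbert functor on an affine base. -/
theorem exists_fam {d : ℕ} {I : (PicF.XT f (base v R)).IdealSheafData}
    (hI : Mor2.IsFinLocFreeOfDeg d (I.subschemeι ≫ PicF.XTproj f (base v R))) :
    ∃ (Q : Type u) (_ : CommRing Q) (_ : Algebra R Q) (w : Spec (CommRingCat.of Q) ⟶ PicF.XT f (base v R)),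
      IsClosedImmersion w ∧ w.ker = I ∧
        w ≫ PicF.XTproj f (base v R) = Spec.map (CommRingCat.ofHom (algebraMap R Q)) ∧
        Module.Finite R Q ∧ Module.Projective R Q ∧ ∀ p, Module.rankAtStalk (R := R) Q p = d := by
  obtain ⟨⟨h1, h2, h3⟩, h4⟩ := hI
  haveI := h1; haveI := h2; haveI := h3
  haveI : IsAffine (base v R).left := inferInstanceAs (IsAffine (Spec (CommRingCat.of R)))
  haveI : IsAffine I.subscheme := isAffine_of_isAffineHom (I.subschemeι ≫ PicF.XTproj f (base v R))
  let e := I.subscheme.isoSpec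
  obtain ⟨p, hp⟩ := Spec.map_surjective (e.inv ≫ I.subschemeι ≫ PicF.XTproj f (base v R))
  letI : Algebra R Γ(I.subscheme, ⊤) := p.hom.toAlgebra
  have hp' : e.inv ≫ I.subschemeι ≫ PicF.XTproj f (base v R) =
      Spec.map (CommRingCat.ofHom (algebraMap R Γ(I.subscheme, ⊤))) := hp.symm
  haveI i1 : IsFinite (Spec.map (CommRingCat.ofHom (algebraMap R Γ(I.subscheme, ⊤)))) := hp' ▸ inferInstance
  haveI i2 : Flat (Spec.map (CommRingCat.ofHom (algebraMap R Γ(I.subscheme, ⊤)))) := hp' ▸ inferInstance
  haveI i3 : LocallyOfFinitePresentation (Spec.map (CommRingCat.ofHom (algebraMap R Γ(I.subscheme, ⊤)))) :=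
    hp' ▸ inferInstance
  haveI : Module.Finite R Γ(I.subscheme, ⊤) := RingHom.finite_algebraMap.1 ((IsFinite.SpecMap_iff _).1 i1)
  haveI : Module.Flat R Γ(I.subscheme, ⊤) := RingHom.flat_algebraMap_iff.1 (Flat.SpecMap_iff.1 i2)
  haveI : Algebra.FinitePresentation R Γ(I.subscheme, ⊤) :=
    RingHom.finitePresentation_algebraMap.1 ((LocallyOfFinitePresentation.SpecMap_iff _).1 i3)
  haveI : Module.FinitePresentation R Γ(I.subscheme, ⊤) := Module.FinitePresentation.of_finite_of_finitePresentation R Γ(I.subscheme, ⊤)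
  refine ⟨Γ(I.subscheme, ⊤), inferInstance, inferInstance, e.inv ≫ I.subschemeι, inferInstance, ?_, ?_,
    inferInstance, Module.Flat.projective_of_finitePresentation, fun x => ?_⟩
  · rw [Scheme.Hom.ker_comp_of_isIso, Scheme.IdealSheafData.ker_subschemeι]
  · rw [Category.assoc, hp']
  · rw [← Scheme.Hom.finrank_SpecMap_algebraMap, ← hp', Scheme.Hom.finrank_comp_left_of_isIso]
    exact h4 x

/-- Goodness spreads out from a field valued point, if the element maps into the chart. -/
theorem exists_good_nhd [Mono v] {Q : Type u} [CommRing Q] [Algebra R Q] [Module.Finite R Q] [Module.Projective R Q]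
    (hrank : ∀ p, Module.rankAtStalk (R := R) Q p = n)
    (w : Spec (CommRingCat.of Q) ⟶ PicF.XT f (base v R)) [IsClosedImmersion w]
    (hw : w ≫ PicF.XTproj f (base v R) = Spec.map (CommRingCat.ofHom (algebraMap R Q)))
    (q : B →+* Q) (hq : Spec.map (CommRingCat.ofHom q) ≫ u = w ≫ pullback.fst f (base v R).hom)
    {κ : Type u} [Field κ] [Algebra A κ] (ψ : R →ₐ[A] κ) (hψ : Good huv b κ (HilbD.pull f (baseMap v ψ) w.ker)) :
    ∃ r : R, ψ r ≠ 0 ∧
      Good huv b (Localization.Away r)
        (HilbD.pull f (baseMap v (IsScalarTower.toAlgHom A R (Localization.Away r))) w.ker) := by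
  classical
  have hbc : ∀ (R' : Type u) [CommRing R'] [Algebra A R'] [Algebra R R'] [IsScalarTower A R R'],
      ∃ w' : Spec (CommRingCat.of (R' ⊗[R] Q)) ⟶ PicF.XT f (base v R'),
        HilbD.pull f (baseMap v (IsScalarTower.toAlgHom A R R')) w.ker = w'.ker ∧ IsClosedImmersion w' ∧
        w' ≫ PicF.XTproj f (base v R') = Spec.map (CommRingCat.ofHom (algebraMap R' (R' ⊗[R] Q))) ∧
        Spec.map (CommRingCat.ofHom ((Algebra.TensorProduct.includeRight (R := R) (A := R') (B := Q)).toRingHom.comp q))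
          ≫ u = w' ≫ pullback.fst f (base v R').hom := by
    intro R' _ _ _ _
    let t := Spec.map (CommRingCat.ofHom (Algebra.TensorProduct.includeRight (R := R) (A := R') (B := Q)).toRingHom)
    have hsq : IsPullback t (Spec.map (CommRingCat.ofHom (algebraMap R' (R' ⊗[R] Q))))
        (Spec.map (CommRingCat.ofHom (algebraMap R Q))) (Spec.map (CommRingCat.ofHom (algebraMap R R'))) :=
      (isPullback_SpecMap_of_isPushout _ _ _ _ (CommRingCat.isPushout_tensorProduct R R' Q)).flip
    let g := baseMap v (IsScalarTower.toAlgHom A R R')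
    let w' : Spec (CommRingCat.of (R' ⊗[R] Q)) ⟶ PicF.XT f (base v R') :=
      pullback.lift (t ≫ w ≫ pullback.fst f (base v R).hom) (Spec.map (CommRingCat.ofHom (algebraMap R' (R' ⊗[R] Q))))
        (by
          rw [Category.assoc, Category.assoc, pullback.condition]
          show t ≫ (w ≫ PicF.XTproj f (base v R) ≫ (base v R).hom) = _
          rw [reassoc_of% hw, ← Category.assoc, hsq.w, Category.assoc]
          exact congrArg (_ ≫ ·) (Over.w g))
    have h1 : w' ≫ PicF.XTproj f (base v R') = _ := pullback.lift_snd _ _ _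
    have h2 : w' ≫ pullback.fst f (base v R').hom = _ := pullback.lift_fst _ _ _
    obtain ⟨hk, hc⟩ := ker_eq_pull f g w w' t (by
      apply pullback.hom_ext
      · rw [Category.assoc, Category.assoc, show PicF.XTmap f g ≫ pullback.fst f (base v R).hom =
          pullback.fst f (base v R').hom by simp [PicF.XTmap], h2]
      · rw [Category.assoc, Category.assoc]
        show _ ≫ w ≫ PicF.XTproj f _ = w' ≫ PicF.XTmap f g ≫ PicF.XTproj f _
        rw [(HilbSh8.isPullback_XTmap f g).w, hw, ← Category.assoc, h1]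
        exact hsq.w)
      (by rw [h1, hw]; exact hsq)
    refine ⟨w', hk, hc, h1, ?_⟩
    rw [h2, CommRingCat.ofHom_comp, Spec.map_comp, Category.assoc, hq]
  -- the images of the basis span the fibre
  letI : Algebra R κ := ψ.toRingHom.toAlgebra
  haveI : IsScalarTower A R κ := IsScalarTower.of_algebraMap_eq fun a => (ψ.commutes a).symm
  obtain ⟨w', hk, hc, hp, hf⟩ := hbc κ
  obtain ⟨K, hK, hKe⟩ := hψ
  haveI := isClosedImmersion_wK huv b hK
  obtain ⟨e, he⟩ := exists_iso_of_ker_eq w' (wK huv K)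
    (hk.symm.trans ((congrArg (HilbD.pull f · w.ker)
      (Over.OverMorphism.ext rfl : baseMap v (IsScalarTower.toAlgHom A R κ) = baseMap v ψ)).trans hKe))
  obtain ⟨χ, hχ⟩ := Spec.map_surjective e.hom
  have hχs : Function.Surjective χ := by
    have : IsIso χ := by
      haveI : IsIso (Scheme.Spec.map χ.op) := (hχ ▸ inferInstance : IsIso (Spec.map χ))
      haveI : IsIso χ.op := isIso_of_reflects_iso χ.op Scheme.Spec
      exact isIso_of_op χ
    exact (ConcreteCategory.bijective_of_isIso χ).2
  have hχ1 : ∀ y, χ (Ideal.Quotient.mk K ((1 : κ) ⊗ₜ[A] y)) = (1 : κ) ⊗ₜ[R] q y := by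
    have h := congrArg (· ≫ pullback.fst f (base v κ).hom) he
    simp only [Category.assoc, wK_fst] at h
    rw [← hf, ← hχ, ← Category.assoc, cancel_mono, ← Spec.map_comp] at h
    exact fun y => RingHom.congr_fun (congrArg CommRingCat.Hom.hom (Spec.map_injective h)) y
  have hχ2 : ∀ r : κ, χ (algebraMap κ _ r) = algebraMap κ (κ ⊗[R] Q) r := by
    have h := congrArg (· ≫ PicF.XTproj f (base v κ)) he
    simp only [Category.assoc, wK_proj, hp] at h
    rw [← hχ, ← Spec.map_comp] at h
    exact fun r => RingHom.congr_fun (congrArg CommRingCat.Hom.hom (Spec.map_injective h)) r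
  let e0 : (Fin n → R) →ₗ[R] Q := Fintype.linearCombination R fun j => q (b j)
  let M := Q ⧸ LinearMap.range e0
  obtain ⟨bas, hbas⟩ := exists_basis b hK
  have hspan : ∀ z : κ ⊗[R] Q, ∃ x : Fin n → κ, z = ∑ j, x j • ((1 : κ) ⊗ₜ[R] q (b j)) := fun z => by
    obtain ⟨c, rfl⟩ := hχs z
    refine ⟨bas.equivFun c, ?_⟩
    conv_lhs => rw [← bas.sum_equivFun c]
    rw [map_sum]
    refine Finset.sum_congr rfl fun j _ => ?_
    rw [Algebra.smul_def]
    show χ.hom _ = _
    rw [smul_quot K (bas.equivFun c j) (bas j)]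
    refine (map_mul χ.hom _ _).trans ?_
    rw [show χ.hom (algebraMap κ _ (bas.equivFun c j)) = _ from hχ2 _, hbas,
      show χ.hom (Ideal.Quotient.mk K ((1 : κ) ⊗ₜ[A] b j)) = _ from hχ1 _, ← Algebra.smul_def]
  have hM : Subsingleton (κ ⊗[R] M) := by
    refine subsingleton_of_forall_eq 0 fun z => ?_
    obtain ⟨z, rfl⟩ := LinearMap.baseChange_surjective κ (Submodule.mkQ_surjective (LinearMap.range e0)) z
    obtain ⟨x, rfl⟩ := hspan z
    rw [map_sum]
    refine Finset.sum_eq_zero fun j _ => ?_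
    have : (LinearMap.range e0).mkQ (q (b j)) = 0 :=
      (Submodule.Quotient.mk_eq_zero _).2 ⟨Pi.single j 1, by simp [e0]⟩
    rw [map_smul, LinearMap.baseChange_tmul, this, TensorProduct.tmul_zero, smul_zero]
  let p : PrimeSpectrum R := ⟨RingHom.ker ψ, RingHom.ker_isPrime ψ⟩
  haveI : p.asIdeal.IsPrime := p.isPrime
  have hp0 : p ∉ Module.support R M := fun hmem => by
    haveI : Nontrivial (p.asIdeal.ResidueField ⊗[R] M) :=
      (Module.mem_support_iff_nontrivial_residueField_tensorProduct p).1 hmem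
    let ρ : p.asIdeal.ResidueField →+* κ := Ideal.ResidueField.lift p.asIdeal ψ.toRingHom le_rfl
      fun x hx => (isUnit_iff_ne_zero.2 hx : IsUnit (ψ x))
    letI : Algebra p.asIdeal.ResidueField κ := ρ.toAlgebra
    haveI : IsScalarTower R p.asIdeal.ResidueField κ :=
      IsScalarTower.of_algebraMap_eq fun r => (Ideal.ResidueField.lift_algebraMap (I := p.asIdeal) _ _ _ r).symm
    haveI : Subsingleton (κ ⊗[p.asIdeal.ResidueField] (p.asIdeal.ResidueField ⊗[R] M)) :=
      (AlgebraTensorModule.cancelBaseChange R p.asIdeal.ResidueField κ κ M).toEquiv.subsingleton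
    exact not_subsingleton _ (Module.FaithfullyFlat.subsingleton_tensorProduct_iff_right
      (M := κ) (N := p.asIdeal.ResidueField ⊗[R] M) p.asIdeal.ResidueField |>.1 this)
  rw [Module.support_eq_zeroLocus, PrimeSpectrum.mem_zeroLocus, SetLike.coe_subset_coe, SetLike.not_le_iff_exists] at hp0
  obtain ⟨r, hrM, hr⟩ := hp0
  refine ⟨r, hr, ?_⟩
  let R' := Localization.Away r
  obtain ⟨w'', hk', hc', hp', hf'⟩ := hbc R'
  rw [hk']
  refine good_of_fam huv b w'' hp' _ hf' ?_
  let e1 : (Fin n → R') →ₗ[R'] R' ⊗[R] Q := Fintype.linearCombination R' fun j => (1 : R') ⊗ₜ[R] q (b j)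
  have hsurj : Function.Surjective e1 := fun z => by
    induction z using TensorProduct.induction_on with
    | zero => exact ⟨0, map_zero _⟩
    | add z z' hz hz' =>
      obtain ⟨x, rfl⟩ := hz
      obtain ⟨x', rfl⟩ := hz'
      exact ⟨x + x', map_add _ _ _⟩
    | tmul c y =>
      have : r • (LinearMap.range e0).mkQ y = 0 := Module.mem_annihilator.1 hrM _
      rw [← map_smul, Submodule.mkQ_apply, Submodule.Quotient.mk_eq_zero] at this
      obtain ⟨x, hx⟩ := this
      obtain ⟨ri, hri⟩ := (IsLocalization.Away.algebraMap_isUnit (S := R') r).exists_right_inv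
      refine ⟨(c * ri) • fun j => algebraMap R R' (x j), ?_⟩
      have hex : e1 (fun j => algebraMap R R' (x j)) = (1 : R') ⊗ₜ[R] e0 x := by
        simp only [e1, e0, Fintype.linearCombination_apply, TensorProduct.tmul_sum, TensorProduct.tmul_smul,
          algebraMap_smul]
      rw [map_smul, hex, hx, TensorProduct.tmul_smul, TensorProduct.smul_tmul', TensorProduct.smul_tmul']
      congr 1
      rw [smul_eq_mul, Algebra.smul_def, mul_one]
      show c * ri * algebraMap R R' r = c
      rw [mul_assoc, mul_comm ri, hri, mul_one]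
  show Function.Bijective e1
  refine ⟨?_, hsurj⟩
  obtain ⟨s, hs⟩ := Module.projective_lifting_property e1 LinearMap.id hsurj
  have hker : Subsingleton (LinearMap.ker e1) := by
    let iso : (Fin n → R') ≃ₗ[R'] LinearMap.ker e1 × (R' ⊗[R] Q) :=
      LinearEquiv.ofLinear (LinearMap.prod ((LinearMap.id - s.comp e1).codRestrict _ fun x => by
          have := LinearMap.congr_fun hs (e1 x)
          simp only [LinearMap.comp_apply, LinearMap.id_apply] at this
          simp [LinearMap.mem_ker, this]) e1)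
        ((LinearMap.ker e1).subtype.coprod s) (by
          refine LinearMap.ext fun ⟨k, z⟩ => ?_
          have hz := LinearMap.congr_fun hs z
          simp only [LinearMap.comp_apply, LinearMap.id_apply] at hz
          have hk : e1 k.1 = 0 := k.2
          apply Prod.ext
          · apply Subtype.ext
            simp [hz, hk]
          · simp [hz, hk]) (by
          refine LinearMap.ext fun x => ?_
          simp)
    haveI : Module.Finite R' (LinearMap.ker e1 × (R' ⊗[R] Q)) := Module.Finite.equiv iso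
    haveI : Module.Finite R' (LinearMap.ker e1) :=
      Module.Finite.of_surjective (LinearMap.fst R' _ (R' ⊗[R] Q)) Prod.fst_surjective
    haveI : Module.Projective R' (LinearMap.ker e1 × (R' ⊗[R] Q)) := Module.Projective.of_equiv iso
    haveI : Module.Projective R' (LinearMap.ker e1) := Module.Projective.of_split (LinearMap.inl R' _ (R' ⊗[R] Q))
      (LinearMap.fst R' _ _) rfl
    refine (Module.rankAtStalk_eq_zero_iff_subsingleton (R := R')).1 (funext fun P => ?_)
    haveI : Nontrivial R' := ⟨0, 1, fun h => P.isPrime.ne_top (Ideal.eq_top_iff_one _ |>.2 (h ▸ P.asIdeal.zero_mem))⟩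
    have hr := congrFun (Module.rankAtStalk_eq_of_equiv iso) P
    rw [Module.rankAtStalk_prod, Pi.add_apply, Module.rankAtStalk_baseChange, hrank,
      Module.rankAtStalk_eq_finrank_of_free] at hr
    simp only [Module.finrank_fin_fun, Pi.natCast_apply, Nat.cast_id] at hr
    rw [Pi.zero_apply]
    omega
  have h := LinearMap.ker_eq_bot.1 (Submodule.eq_bot_of_subsingleton (p := LinearMap.ker e1))
  exact h

end

end Groth.Agent.Stk19b.HilbPts
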