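import Groth.Agent.Stk19b.GrpdSplit.Chart

/-!
# The chart of quotients with a given basis, for an arbitrary algebra
-/

set_option autoImplicit false
set_option backward.isDefEq.respectTransparency false

universe u

noncomputable section

open TensorProduct Matrix

namespace Groth.Agent.Stk19b.HilbPts

open GrpdSplit

variable (A : Type u) {B : Type u} [CommRing A] [CommRing B] [Algebra A B] {n : ℕ} (b : Fin n → B)

/-- The universal datum. -/
theorem exists_universal_datum :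
    ∃ (P : Type u) (_ : CommRing P) (_ : Algebra A P) (σ : B →ₐ[A] Matrix (Fin n) (Fin n) P) (d : Fin n → P),
      IsDatum b P σ d ∧
      ∀ (T : Type u) [CommRing T] [Algebra A T] (σT : B →ₐ[A] Matrix (Fin n) (Fin n) T) (dT : Fin n → T),
        IsDatum b T σT dT → ∃! ψ : P →ₐ[A] T, ψ.mapMatrix.comp σ = σT ∧ ψ ∘ d = dT := by
  classical
  let κ := (B × Fin n × Fin n) ⊕ Fin n
  let P₀ := MvPolynomial κ A
  let X₀ : B → Matrix (Fin n) (Fin n) P₀ := fun y => Matrix.of fun i j => MvPolynomial.X (Sum.inl (y, i, j))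
  let d₀ : Fin n → P₀ := fun i => MvPolynomial.X (Sum.inr i)
  let R : Set P₀ :=
    {r | (∃ y z i j, r = (X₀ (y + z) - (X₀ y + X₀ z)) i j) ∨ (∃ y z i j, r = (X₀ (y * z) - X₀ y * X₀ z) i j) ∨
      (∃ a i j, r = (X₀ (algebraMap A B a) - algebraMap A (Matrix (Fin n) (Fin n) P₀) a) i j) ∨
      ∃ j i, r = (X₀ (b j) *ᵥ d₀ - (Pi.single j 1 : Fin n → P₀)) i}
  let q : P₀ →ₐ[A] P₀ ⧸ Ideal.span R := Ideal.Quotient.mkₐ A _
  have hq : ∀ r ∈ R, q r = 0 := fun r hr => Ideal.Quotient.eq_zero_iff_mem.2 (Ideal.subset_span hr)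
  have hmat : ∀ {M N : Matrix (Fin n) (Fin n) P₀}, (∀ i j, (M - N) i j ∈ R) → q.mapMatrix M = q.mapMatrix N :=
    fun {M N} h => by
      ext i j
      exact sub_eq_zero.1 ((map_sub q _ _).symm.trans (hq _ (h i j)))
  have hadd : ∀ y z, q.mapMatrix (X₀ (y + z)) = q.mapMatrix (X₀ y) + q.mapMatrix (X₀ z) := fun y z =>
    (hmat fun i j => Or.inl ⟨y, z, i, j, rfl⟩).trans (map_add _ _ _)
  have hmul : ∀ y z, q.mapMatrix (X₀ (y * z)) = q.mapMatrix (X₀ y) * q.mapMatrix (X₀ z) := fun y z =>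
    (hmat fun i j => Or.inr (Or.inl ⟨y, z, i, j, rfl⟩)).trans (map_mul _ _ _)
  have halg : ∀ a, q.mapMatrix (X₀ (algebraMap A B a)) = algebraMap A _ a := fun a =>
    (hmat fun i j => Or.inr (Or.inr (Or.inl ⟨a, i, j, rfl⟩))).trans (AlgHom.commutes _ _)
  let σ : B →ₐ[A] Matrix (Fin n) (Fin n) (P₀ ⧸ Ideal.span R) :=
    { toFun := fun y => q.mapMatrix (X₀ y)
      map_one' := by rw [← map_one (algebraMap A B), halg, map_one]
      map_mul' := hmul
      map_zero' := by rw [← map_zero (algebraMap A B), halg, map_zero]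
      map_add' := hadd
      commutes' := halg }
  refine ⟨P₀ ⧸ Ideal.span R, inferInstance, inferInstance, σ, q ∘ d₀, fun j => funext fun i => ?_,
    fun T _ _ σT dT hT => ?_⟩
  · show ((X₀ (b j)).map q *ᵥ (q ∘ d₀)) i = _
    have h0 := hq _ (Or.inr (Or.inr (Or.inr ⟨j, i, rfl⟩)))
    rw [Pi.sub_apply, map_sub, sub_eq_zero] at h0
    refine (RingHom.map_mulVec q.toRingHom (X₀ (b j)) d₀ i).symm.trans (h0.trans ?_)
    by_cases h : i = j
    · subst h; simp
    · simp [h]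
  let val : κ → T := Sum.elim (fun p => σT p.1 p.2.1 p.2.2) dT
  let ψ₀ : P₀ →ₐ[A] T := MvPolynomial.aeval val
  have hX : ∀ y, ψ₀.mapMatrix (X₀ y) = σT y := fun y => by
    ext i j
    exact MvPolynomial.aeval_X val (Sum.inl (y, i, j))
  have hd : ψ₀ ∘ d₀ = dT := funext fun i => MvPolynomial.aeval_X val (Sum.inr i)
  have hR : ∀ x ∈ Ideal.span R, ψ₀ x = 0 := fun x hx => by
    induction hx using Submodule.span_induction with
    | mem x hx =>
      have key : ∀ {M : Matrix (Fin n) (Fin n) P₀}, ψ₀.mapMatrix M = 0 → ∀ i j, ψ₀ (M i j) = 0 :=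
        fun h i j => congrFun (congrFun h i) j
      rcases hx with ⟨y, z, i, j, rfl⟩ | ⟨y, z, i, j, rfl⟩ | ⟨a, i, j, rfl⟩ | ⟨j, i, rfl⟩
      · exact key (by rw [map_sub, map_add, hX, hX, hX, map_add, sub_self]) i j
      · exact key (by rw [map_sub, map_mul, hX, hX, hX, map_mul, sub_self]) i j
      · exact key (by rw [map_sub, hX, AlgHom.commutes, AlgHom.commutes, sub_self]) i j
      · rw [Pi.sub_apply, map_sub, sub_eq_zero]
        refine ((RingHom.map_mulVec ψ₀.toRingHom (X₀ (b j)) d₀ i).trans ?_)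
        show ((ψ₀.mapMatrix (X₀ (b j))) *ᵥ (ψ₀ ∘ d₀)) i = _
        rw [hX, hd, hT j]
        by_cases h : i = j
        · subst h; simp
        · simp [h]
    | zero => exact map_zero _
    | add x y _ _ hx hy => rw [map_add, hx, hy, add_zero]
    | smul c x _ hx => rw [smul_eq_mul, map_mul, hx, mul_zero]
  refine ⟨Ideal.Quotient.liftₐ _ ψ₀ hR, ⟨AlgHom.ext fun y => ?_, hd⟩, fun ψ' h' =>
    Ideal.Quotient.algHom_ext A (MvPolynomial.algHom_ext fun v => ?_)⟩
  · rw [← hX]; rfl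
  · rcases v with ⟨y, i, j⟩ | i
    · exact (congrFun (congrFun (AlgHom.congr_fun h'.1 y) i) j).trans
        (MvPolynomial.aeval_X val (Sum.inl (y, i, j))).symm
    · exact (congrFun h'.2 i).trans (MvPolynomial.aeval_X val (Sum.inr i)).symm

/-- **The chart**. -/
theorem exists_chart :
    ∃ (P : Type u) (_ : CommRing P) (_ : Algebra A P) (J : Ideal (P ⊗[A] B)), IsBasisQuot b P J ∧
      (∀ (T : Type u) [CommRing T] [Algebra A T] (ψ : P →ₐ[A] T), IsBasisQuot b T (J.map (mapT ψ))) ∧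
      ∀ (T : Type u) [CommRing T] [Algebra A T] (K : Ideal (T ⊗[A] B)), IsBasisQuot b T K →
        ∃! ψ : P →ₐ[A] T, J.map (mapT ψ) = K := by
  obtain ⟨P, _, _, σ, d, hd, huniv⟩ := exists_universal_datum A b
  refine ⟨P, inferInstance, inferInstance, ann σ d, isBasisQuot_ann b σ d hd,
    fun T _ _ ψ => (map_ann b σ d ψ hd).symm ▸ isBasisQuot_ann b _ _ (isDatum_map b σ d ψ hd), fun T _ _ K hK => ?_⟩
  obtain ⟨σT, dT, hT, rfl⟩ := exists_datum_of_isBasisQuot b hK
  obtain ⟨ψ, ⟨h1, h2⟩, hu⟩ := huniv T σT dT hT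
  refine ⟨ψ, ?_, fun ψ' hψ' => hu ψ' ?_⟩
  · dsimp only
    rw [map_ann b σ d ψ hd, h1, h2]
  · exact eq_of_ann_eq b _ _ (isDatum_map b σ d ψ' hd) hT ((map_ann b σ d ψ' hd).symm.trans hψ')

end Groth.Agent.Stk19b.HilbPts
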